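import Mathlib.CategoryTheory.Sites.Pullback
import Mathlib.CategoryTheory.Sites.CartesianMonoidal
import Mathlib.CategoryTheory.Sites.Abelian
import Mathlib.CategoryTheory.Monoidal.Cartesian.CommGrp_
import Mathlib.CategoryTheory.Monoidal.Types.Basic
import Mathlib.Algebra.Category.Grp.Limits

set_option autoImplicit false
universe w v₁ v₂ v₃ u₁ u₂ u₃

open CategoryTheory CategoryTheory.Limits Opposite MonoidalCategory CartesianMonoidalCategory MonObj

namespace K298.PullForget

section

variable {C : Type u₁} [Category.{v₁} C] (J : GrothendieckTopology C)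

/-- The underlying sheaf of sets of an abelian sheaf. -/
noncomputable abbrev forgetSh : Sheaf J AddCommGrpCat.{w} ⥤ Sheaf J (Type w) :=
  sheafCompose J (forget AddCommGrpCat.{w})

attribute [-instance] CategoryTheory.ObjectProperty.fullMonoidalSubcategory
attribute [-instance] CategoryTheory.ObjectProperty.fullBraidedSubcategory

/-- The braiding on sheaves of sets attached to the chosen finite products. -/
@[implicit_reducible]
def braided : @BraidedCategory (Sheaf J (Type w)) _ SemiCartesianMonoidalCategory.toMonoidalCategory :=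
  .ofCartesianMonoidalCategory

attribute [local instance] braided

/-- The group structure on the underlying sheaf of sets. -/
@[implicit_reducible]
noncomputable def grpObj (F : Sheaf J AddCommGrpCat.{w}) : GrpObj ((forgetSh J).obj F) where
  one := ⟨{ app c := ↾ (fun _ => (0 : F.obj.obj c))
            naturality c d f := by ext x; exact (map_zero (F.obj.map f).hom).symm }⟩
  mul := ⟨{ app c := ↾ (fun p => ((show F.obj.obj c from p.1) + (show F.obj.obj c from p.2) : F.obj.obj c))
            naturality c d f := by ext x; exact (map_add (F.obj.map f).hom _ _).symm }⟩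
  inv := ⟨{ app c := ↾ (fun p => (- (show F.obj.obj c from p) : F.obj.obj c))
            naturality c d f := by ext x; exact (map_neg (F.obj.map f).hom _).symm }⟩
  one_mul := by
    ext c x
    exact zero_add (M := F.obj.obj c) _
  mul_one := by
    ext c x
    exact add_zero (M := F.obj.obj c) _
  mul_assoc := by
    ext c x
    exact add_assoc (G := F.obj.obj c) _ _ _
  left_inv := by
    ext c x
    exact neg_add_cancel (G := F.obj.obj c) _
  right_inv := by
    ext c x
    exact add_neg_cancel (G := F.obj.obj c) _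

lemma isCommMonObj (F : Sheaf J AddCommGrpCat.{w}) :
    @IsCommMonObj _ _ _ _ ((forgetSh J).obj F) (grpObj J F).toMonObj :=
  letI := grpObj J F
  { mul_comm := by
      ext c x
      exact add_comm (G := F.obj.obj c) _ _ }

lemma isMonHom {F G : Sheaf J AddCommGrpCat.{w}} (f : F ⟶ G) :
    @IsMonHom _ _ _ _ _ (grpObj J F).toMonObj (grpObj J G).toMonObj ((forgetSh J).map f) :=
  letI := grpObj J F
  letI := grpObj J G
  { one_hom := by ext c x; exact map_zero (f.hom.app c).hom
    mul_hom := by ext c x; exact map_add (f.hom.app c).hom _ _ }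

/-- abelian sheaves to commutative group objects in sheaves of sets -/
noncomputable def toCG : Sheaf J AddCommGrpCat.{w} ⥤ CommGrp (Sheaf J (Type w)) where
  obj F :=
    { X := (forgetSh J).obj F
      grp := grpObj J F
      comm := isCommMonObj J F }
  map {F G} f := InducedCategory.homMk (Grp.homMk'
    (letI := grpObj J F; letI := grpObj J G; letI := isMonHom J f; .mk ((forgetSh J).map f)))

lemma toCG_comp_forget : toCG.{w} J ⋙ CommGrp.forget _ = forgetSh.{w} J := rfl

instance : (toCG.{w} J).Faithful where
  map_injective {F G} f g h := by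
    have h1 : (forgetSh J).map f = (forgetSh J).map g := congrArg (fun t => t.hom.hom.hom) h
    exact (forgetSh J).map_injective h1


instance : (toCG.{w} J).Full where
  map_surjective {F G} g := by
    let g' : (forgetSh J).obj F ⟶ (forgetSh J).obj G := g.hom.hom.hom
    let ap (c : Cᵒᵖ) : F.obj.obj c → G.obj.obj c := fun x => g'.hom.app c x
    have hmul := g.hom.hom.isMonHom_hom.mul_hom
    have h (c : Cᵒᵖ) (x y : F.obj.obj c) : ap c (x + y) = ap c x + ap c y := by
      have h1 := NatTrans.congr_app (congrArg (fun t => t.hom) hmul) c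
      have h2 : ∀ (A B : Type w) (a b : A ⟶ B), a = b → ∀ x : A, a x = b x := by
        rintro A B a b rfl x; rfl
      exact h2 _ _ _ _ h1 (x, y)
    refine ⟨⟨{ app c := AddCommGrpCat.ofHom (AddMonoidHom.mk' (ap c) (h c))
               naturality c d f := ?_ }⟩, ?_⟩
    · ext x
      exact ConcreteCategory.congr_hom (g'.hom.naturality f) x
    · apply CommGrp.hom_ext
      rfl

section EssSurj

variable (X : CommGrp (Sheaf J (Type w)))

/-- evaluation of the addition. -/
def addS (c : Cᵒᵖ) (x y : X.X.obj.obj c) : X.X.obj.obj c :=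
  (μ[X.X] : X.X ⊗ X.X ⟶ X.X).hom.app c ((x, y) : X.X.obj.obj c × X.X.obj.obj c)

def zeroS (c : Cᵒᵖ) : X.X.obj.obj c :=
  (η[X.X] : 𝟙_ _ ⟶ X.X).hom.app c PUnit.unit

def negS (c : Cᵒᵖ) (x : X.X.obj.obj c) : X.X.obj.obj c :=
  (ι[X.X] : X.X ⟶ X.X).hom.app c x

lemma app_congr {A B : Sheaf J (Type w)} {f g : A ⟶ B} (h : f = g) (c : Cᵒᵖ) (x : A.obj.obj c) :
    f.hom.app c x = g.hom.app c x := by rw [h]

/-- the group structure on sections -/
@[implicit_reducible]
def acg (c : Cᵒᵖ) : AddCommGroup (X.X.obj.obj c) :=
  letI : Add (X.X.obj.obj c) := ⟨addS J X c⟩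
  letI : Zero (X.X.obj.obj c) := ⟨zeroS J X c⟩
  letI : Neg (X.X.obj.obj c) := ⟨negS J X c⟩
  have h1 : ∀ x y : X.X.obj.obj c, x + y = y + x := fun x y => app_congr J (IsCommMonObj.mul_comm X.X) c
      ((y, x) : X.X.obj.obj c × X.X.obj.obj c)
  have h2 : ∀ x : X.X.obj.obj c, 0 + x = x :=
    fun x => app_congr J (MonObj.one_mul X.X) c ((PUnit.unit, x) : PUnit × X.X.obj.obj c)
  { add_assoc := fun x y z => app_congr J (MonObj.mul_assoc X.X) c
        (((x, y), z) : (X.X.obj.obj c × X.X.obj.obj c) × X.X.obj.obj c)
    zero_add := h2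
    add_zero := fun x => (h1 x 0).trans (h2 x)
    neg_add_cancel := fun x => app_congr J (GrpObj.left_inv X.X) c x
    nsmul := nsmulRec
    zsmul := zsmulRec
    add_comm := h1 }

lemma map_addS {c d : Cᵒᵖ} (f : c ⟶ d) (x y : X.X.obj.obj c) :
    X.X.obj.map f (addS J X c x y) = addS J X d (X.X.obj.map f x) (X.X.obj.map f y) :=
  (ConcreteCategory.congr_hom ((μ[X.X] : X.X ⊗ X.X ⟶ X.X).hom.naturality f)
    ((x, y) : X.X.obj.obj c × X.X.obj.obj c)).symm

/-- restriction as a homomorphism -/
def mapHom {c d : Cᵒᵖ} (f : c ⟶ d) :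
    letI := acg J X c; letI := acg J X d; X.X.obj.obj c →+ X.X.obj.obj d :=
  letI := acg J X c; letI := acg J X d;
  AddMonoidHom.mk' (fun x : X.X.obj.obj c => (X.X.obj.map f x : X.X.obj.obj d))
      (map_addS J X f)

/-- the presheaf of abelian groups of a commutative group object -/
def pre : Cᵒᵖ ⥤ AddCommGrpCat.{w} where
  obj c := @AddCommGrpCat.of (X.X.obj.obj c) (acg J X c)
  map {c d} f := letI := acg J X c; letI := acg J X d; AddCommGrpCat.ofHom (mapHom J X f)
  map_id c := by
    let _ := acg J X c
    apply AddCommGrpCat.ext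
    intro x
    exact ConcreteCategory.congr_hom (X.X.obj.map_id c) x
  map_comp f g := by
    apply AddCommGrpCat.ext
    intro x
    exact ConcreteCategory.congr_hom (X.X.obj.map_comp f g) x

lemma isSheaf_of_forget (P : Cᵒᵖ ⥤ AddCommGrpCat.{w})
    (h : Presheaf.IsSheaf J (P ⋙ forget AddCommGrpCat.{w})) : Presheaf.IsSheaf J P := by
  rw [isSheaf_iff_isSheaf_of_type] at h
  intro E U S hS x hx
  let fam (e : E) : Presieve.FamilyOfElements (P ⋙ forget _) S.arrows := fun V f hf =>
    (show E ⟶ P.obj (op V) from x f hf).hom e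
  have hfam (e : E) : (fam e).Compatible := by
    intro Y₁ Y₂ Z g₁ g₂ f₁ f₂ h₁ h₂ hc
    exact ConcreteCategory.congr_hom (hx g₁ g₂ h₁ h₂ hc) e
  let t (e : E) : P.obj (op U) := (h S hS).amalgamate (fam e) (hfam e)
  have ht (e : E) (V : C) (f : V ⟶ U) (hf : S f) : P.map f.op (t e) =
      (show E ⟶ P.obj (op V) from x f hf).hom e :=
    (h S hS).valid_glue (hfam e) f hf
  have hsep (a b : P.obj (op U)) (hab : ∀ (V : C) (f : V ⟶ U), S f → P.map f.op a = P.map f.op b) : a = b :=
    (h S hS).isSeparatedFor.ext (fun V f hf => hab V f hf)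
  refine ⟨AddCommGrpCat.ofHom (AddMonoidHom.mk' t ?_), ?_, ?_⟩
  · intro a b
    apply hsep
    intro V f hf
    rw [ht _ V f hf, map_add, map_add, ht _ V f hf, ht _ V f hf]
  · intro V f hf
    apply AddCommGrpCat.ext
    intro e
    exact ht e V f hf
  · intro g hg
    apply AddCommGrpCat.ext
    intro e
    apply hsep
    intro V f hf
    refine (ConcreteCategory.congr_hom (hg f hf) e).trans (ht e V f hf).symm

lemma isSheaf_pre : Presheaf.IsSheaf J (pre J X) :=
  isSheaf_of_forget J _ X.X.property

/-- the abelian sheaf of a commutative group object -/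
def inv : Sheaf J AddCommGrpCat.{w} := ⟨pre J X, isSheaf_pre J X⟩

end EssSurj

instance : (toCG.{w} J).EssSurj where
  mem_essImage X := ⟨inv J X, ⟨CommGrp.mkIso (Iso.refl _) rfl rfl⟩⟩

/-- Abelian sheaves are the commutative group objects in sheaves of sets. -/
instance : (toCG.{w} J).IsEquivalence where

end

section Pull

attribute [-instance] CategoryTheory.ObjectProperty.fullMonoidalSubcategory
attribute [-instance] CategoryTheory.ObjectProperty.fullBraidedSubcategory
attribute [local instance] braided

variable {C : Type u₁} [Category.{v₁} C] {D : Type u₂} [Category.{v₂} D]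
  (F : C ⥤ D) (J : GrothendieckTopology C) (K : GrothendieckTopology D)
  [F.IsContinuous J K]

instance preservesFiniteLimits_push (A : Type u₃) [Category.{v₃} A] [HasFiniteLimits A] :
    PreservesFiniteLimits (F.sheafPushforwardContinuous A J K) where
  preservesFiniteLimits S _ _ := by
    have h1 : PreservesLimitsOfShape S (F.sheafPushforwardContinuous A J K ⋙ sheafToPresheaf J A) :=
      inferInstanceAs (PreservesLimitsOfShape S (sheafToPresheaf K A ⋙
        (Functor.whiskeringLeft _ _ _).obj F.op))
    exact preservesLimitsOfShape_of_reflects_of_preserves _ (sheafToPresheaf J A)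

attribute [local instance] Functor.Braided.ofChosenFiniteProducts

lemma pushMul (A : CommGrp (Sheaf K (Type w))) (c : Cᵒᵖ)
    (z : A.X.obj.obj (F.op.obj c) × A.X.obj.obj (F.op.obj c)) :
      (μ[((F.sheafPushforwardContinuous (Type w) J K).mapCommGrp.obj A).X]).hom.app c z =
    (μ[A.X] : A.X ⊗ A.X ⟶ A.X).hom.app (F.op.obj c) z := by
  let P := F.sheafPushforwardContinuous (Type w) J K
  have h1 : Functor.OplaxMonoidal.δ P A.X A.X ≫ (Functor.LaxMonoidal.μ P A.X A.X ≫ P.map μ[A.X]) =
    P.map μ[A.X] := by
    simp
  exact app_congr J h1 c z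

lemma pushOne (A : CommGrp (Sheaf K (Type w))) (c : Cᵒᵖ) (z : PUnit) :
      (η[((F.sheafPushforwardContinuous (Type w) J K).mapCommGrp.obj A).X]).hom.app c z =
    (η[A.X] : 𝟙_ _ ⟶ A.X).hom.app (F.op.obj c) z := by
  let P := F.sheafPushforwardContinuous (Type w) J K
  have h1 : Functor.OplaxMonoidal.η P ≫ (Functor.LaxMonoidal.ε P ≫ P.map η[A.X]) =
    P.map η[A.X] := by
    simp
  exact app_congr J h1 c z

/-- Direct images and the passage to group objects. -/
noncomputable def pushIso :
    F.sheafPushforwardContinuous AddCommGrpCat.{w} J K ⋙ toCG J ≅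
      toCG K ⋙ (F.sheafPushforwardContinuous (Type w) J K).mapCommGrp :=
  NatIso.ofComponents (fun G => CommGrp.mkIso (Iso.refl _) (by
    ext c z
    exact (pushOne F J K ((toCG K).obj G) c z).symm) (by
    ext c z
    exact (pushMul F J K ((toCG K).obj G) c z).symm)) (fun f => by
      apply CommGrp.hom_ext
      rfl)

variable [(F.sheafPushforwardContinuous (Type w) J K).IsRightAdjoint]
  [(F.sheafPushforwardContinuous AddCommGrpCat.{w} J K).IsRightAdjoint]
  [PreservesFiniteProducts (F.sheafPullback (Type w) J K)]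

/-- The inverse image of abelian sheaves computed on group objects. -/
noncomputable def pullAdj :
    toCG J ⋙ (F.sheafPullback (Type w) J K).mapCommGrp ⋙ (toCG K).inv ⊣
      F.sheafPushforwardContinuous AddCommGrpCat.{w} J K :=
  (((toCG.{w} J).asEquivalence.toAdjunction.comp
    (((F.sheafAdjunctionContinuous (Type w) J K).mapCommGrp).comp
      (toCG.{w} K).asEquivalence.symm.toAdjunction))).ofNatIsoRight
    ((Functor.associator _ _ _) ≪≫ Functor.isoWhiskerLeft (toCG K) (Iso.refl _) ≪≫
      (Functor.associator _ _ _).symm ≪≫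
      Functor.isoWhiskerRight (pushIso F J K).symm (toCG J).inv ≪≫
      Functor.associator _ _ _ ≪≫
      Functor.isoWhiskerLeft _ (toCG J).asEquivalence.unitIso.symm ≪≫ Functor.rightUnitor _)

/-- Inverse images commute with the passage to group objects. -/
noncomputable def pullIso :
    F.sheafPullback AddCommGrpCat.{w} J K ⋙ toCG K ≅
      toCG J ⋙ (F.sheafPullback (Type w) J K).mapCommGrp :=
  Functor.isoWhiskerRight ((F.sheafAdjunctionContinuous AddCommGrpCat.{w} J K).leftAdjointUniq
    (pullAdj F J K)) (toCG K) ≪≫ Functor.associator _ _ _ ≪≫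
    Functor.isoWhiskerLeft (toCG J) (Functor.associator _ _ _ ≪≫
      Functor.isoWhiskerLeft _ (toCG K).asEquivalence.counitIso ≪≫ Functor.rightUnitor _)

/-- **Inverse image commutes with the forgetful functor to sheaves of sets.** -/
noncomputable def pullForgetIso :
    F.sheafPullback AddCommGrpCat.{w} J K ⋙ forgetSh.{w} K ≅
      forgetSh.{w} J ⋙ F.sheafPullback (Type w) J K :=
  Functor.isoWhiskerRight (pullIso F J K) (CommGrp.forget _)

end Pull

section Exact

variable {C : Type u₁} [Category.{v₁} C] {D : Type u₂} [Category.{v₂} D]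
  (F : C ⥤ D) (J : GrothendieckTopology C) (K : GrothendieckTopology D)
  [F.IsContinuous J K]

instance preservesFiniteLimits_forgetSh : PreservesFiniteLimits (forgetSh.{w} J) where
  preservesFiniteLimits S _ _ := by
    have h1 : PreservesLimitsOfShape S (forgetSh.{w} J ⋙ sheafToPresheaf J (Type w)) :=
      inferInstanceAs (PreservesLimitsOfShape S (sheafToPresheaf J AddCommGrpCat.{w} ⋙
        (Functor.whiskeringRight _ _ _).obj (forget AddCommGrpCat.{w})))
    exact preservesLimitsOfShape_of_reflects_of_preserves _ (sheafToPresheaf J (Type w))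

lemma reflectsLimitsOfShape_forgetSh (S : Type) [SmallCategory S] [FinCategory S] :
    ReflectsLimitsOfShape S (forgetSh.{w} J) := by
  have : (forgetSh.{w} J).ReflectsIsomorphisms := inferInstance
  exact reflectsLimitsOfShape_of_reflectsIsomorphisms

/-- If the inverse image of sheaves of sets is exact, so is the inverse image of abelian sheaves. -/
theorem preservesFiniteLimits_pullAb [(F.sheafPushforwardContinuous (Type w) J K).IsRightAdjoint]
    [(F.sheafPushforwardContinuous AddCommGrpCat.{w} J K).IsRightAdjoint]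
    [PreservesFiniteLimits (F.sheafPullback (Type w) J K)] :
    PreservesFiniteLimits (F.sheafPullback AddCommGrpCat.{w} J K) where
  preservesFiniteLimits S _ _ := by
    have h1 : PreservesLimitsOfShape S (forgetSh.{w} J ⋙ F.sheafPullback (Type w) J K) := inferInstance
    have h2 : PreservesLimitsOfShape S (F.sheafPullback AddCommGrpCat.{w} J K ⋙ forgetSh.{w} K) :=
      preservesLimitsOfShape_of_natIso (pullForgetIso F J K).symm
    have h3 := reflectsLimitsOfShape_forgetSh.{w} K S
    exact preservesLimitsOfShape_of_reflects_of_preserves _ (forgetSh.{w} K)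

end Exact

end K298.PullForget
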