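import Mathlib.CategoryTheory.Abelian.GrothendieckCategory.EnoughInjectives

/-!
# Baer's criterion for a family of objects that detects isomorphisms

Mathlib's argument for one generator, for a family of objects `G i`: an object `I` of a Grothendieck
abelian category is injective when maps from subobjects of the `G i` to `I` extend to `G i`.
-/

set_option autoImplicit false

universe w v u t

namespace K298.BaerFam

open CategoryTheory Category Limits ZeroObject

variable {C : Type u} [Category.{v} C] {ι : Type t} (G : ι → C)

/-- inclusions of subobjects of the `G i` -/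
def genMono : MorphismProperty C :=
  MorphismProperty.ofHoms (fun (X : Σ i, Subobject (G i)) ↦ X.2.arrow)

/-- the family detects that a monomorphism is not an isomorphism -/
def Detects : Prop :=
  ∀ ⦃X Y : C⦄ (p : X ⟶ Y) [Mono p], ¬ IsIso p →
    ∃ (i : ι) (f : G i ⟶ Y), ∀ g : G i ⟶ X, g ≫ p ≠ f

variable [Abelian C]

variable {G} (hG : Detects G)

include hG

set_option backward.isDefEq.respectTransparency false in
lemma exists_pushouts
    {X Y : C} (p : X ⟶ Y) [Mono p] (hp : ¬ IsIso p) :
    ∃ (X' : C) (i : X ⟶ X') (p' : X' ⟶ Y) (_ : (genMono G).pushouts i)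
      (_ : ¬ IsIso i) (_ : Mono p'), i ≫ p' = p := by
  obtain ⟨k, f, hf⟩ := hG p hp
  refine ⟨pushout (pullback.fst p f) (pullback.snd p f), pushout.inl _ _,
    pushout.desc p f pullback.condition,
    ⟨_, _, _, (Subobject.underlyingIso _).hom ≫ pullback.fst _ _,
    pushout.inr _ _, ⟨(⟨k, Subobject.mk (pullback.snd p f)⟩ : Σ i, Subobject (G i))⟩,
    (IsPushout.of_hasPushout (pullback.fst p f) (pullback.snd p f)).of_iso
      ((Subobject.underlyingIso _).symm) (Iso.refl _) (Iso.refl _)
      (Iso.refl _) (by simp) (by simp) (by simp) (by simp)⟩, ?_, ?_, by simp⟩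
  · intro h
    rw [isIso_iff_yoneda_map_bijective] at h
    obtain ⟨a, ha⟩ := (h (G k)).2 (pushout.inr _ _)
    exact hf a (by simpa using ha =≫ pushout.desc p f pullback.condition)
  · exact (IsPushout.of_hasPushout _ _).mono_of_isPullback_of_mono
      (IsPullback.of_hasPullback p f) _ (by simp) (by simp)

set_option backward.defeqAttrib.useBackward true in
lemma exists_larger_subobject {X : C} (A : Subobject X) (hA : A ≠ ⊤) :
    ∃ (A' : Subobject X) (h : A < A'),
      (genMono G).pushouts (Subobject.ofLE A A' h.le) := by
  induction A using Subobject.ind with | _ f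
  obtain ⟨X', i, p', hi, hi', hp', fac⟩ := exists_pushouts hG f
    (by simpa only [Subobject.isIso_iff_mk_eq_top] using hA)
  refine ⟨Subobject.mk p', Subobject.mk_lt_mk_of_comm i fac hi',
    (MorphismProperty.arrow_mk_iso_iff _ ?_).2 hi⟩
  refine Arrow.isoMk (Subobject.underlyingIso f) (Subobject.underlyingIso p') ?_
  dsimp
  simp only [← cancel_mono p', assoc, fac,
    Subobject.underlyingIso_hom_comp_eq_mk, Subobject.ofLE_arrow]

variable {X : C}

open scoped Classical in
/-- a larger subobject -/
noncomputable def larger (A : Subobject X) : Subobject X :=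
  if hA : A = ⊤ then ⊤ else (exists_larger_subobject hG A hA).choose

lemma larger_top : larger hG (⊤ : Subobject X) = ⊤ := dif_pos rfl

lemma lt_larger (A : Subobject X) (hA : A ≠ ⊤) :
    A < larger hG A := by
  dsimp only [larger]
  rw [dif_neg hA]
  exact (exists_larger_subobject hG A hA).choose_spec.choose

lemma le_larger (A : Subobject X) :
    A ≤ larger hG A := by
  by_cases hA : A = ⊤
  · subst hA
    simp only [larger_top, le_refl]
  · exact (lt_larger hG A hA).le

set_option backward.defeqAttrib.useBackward true in
set_option backward.isDefEq.respectTransparency false in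
lemma ofLE_pushouts {P : MorphismProperty C} [P.RespectsIso]
    (hP : (genMono G).pushouts ≤ P) (hP' : MorphismProperty.isomorphisms C ≤ P)
    (A : Subobject X) :
    P (Subobject.ofLE _ _ (le_larger hG A)) := by
  by_cases hA : A = ⊤
  · subst hA
    have : IsIso (Subobject.ofLE _ _ (le_larger hG (⊤ : Subobject X))) := by
      have h1 : Subobject.ofLE _ _ (le_larger hG (⊤ : Subobject X)) =
        (Subobject.isoOfEq _ _ (larger_top hG (X := X)).symm).hom := by
        simp
      rw [h1]
      infer_instance
    exact hP' _ this
  · refine (MorphismProperty.arrow_mk_iso_iff P ?_).1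
      (hP _ (exists_larger_subobject hG A hA).choose_spec.choose_spec)
    exact Arrow.isoMk (Iso.refl _)
      (Subobject.isoOfEq _ _ ((by simp [larger, dif_neg hA])))

variable [IsGrothendieckAbelian.{w} C]

lemma top_mem_range (A₀ : Subobject X) {J : Type w} [LinearOrder J] [OrderBot J] [SuccOrder J]
    [WellFoundedLT J] (hJ : HasCardinalLT (Subobject X) (Cardinal.mk J)) :
    ∃ (j : J), transfiniteIterate (larger hG) j A₀ = ⊤ :=
  top_mem_range_transfiniteIterate (larger hG) A₀ (lt_larger hG) (by simp [larger_top])
    (fun h ↦ by simpa [hasCardinalLT_iff_cardinal_mk_lt] using hJ.of_injective _ h)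

lemma exists_ordinal (A₀ : Subobject X) :
    ∃ (o : Ordinal.{w}) (j : o.ToType), transfiniteIterate (larger hG) j A₀ = ⊤ := by
  let κ := Order.succ (Cardinal.mk (Shrink.{w} (Subobject X)))
  have : Nonempty κ.ord.ToType := by simp [κ]
  have := WellFoundedLT.toOrderBot κ.ord.ToType
  exact ⟨κ.ord, top_mem_range hG A₀ (lt_of_lt_of_le (Order.lt_succ _) (by simp [κ]))⟩

section

variable (A₀ : Subobject X) (J : Type w) [LinearOrder J] [OrderBot J] [SuccOrder J]
  [WellFoundedLT J]

/-- the transfinite iteration as a functor -/
@[simps]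
noncomputable def functorToMonoOver : J ⥤ MonoOver X where
  obj j := MonoOver.mk (transfiniteIterate (larger hG) j A₀).arrow
  map {j j'} f := MonoOver.homMk (Subobject.ofLE _ _
      (monotone_transfiniteIterate _ _ (le_larger hG) (leOfHom f)))

/-- The functor `J ⥤ C` induced by `functorToMonoOver hG A₀ J : J ⥤ MonoOver X`. -/
noncomputable abbrev functor : J ⥤ C :=
  functorToMonoOver hG A₀ J ⋙ MonoOver.forget _ ⋙ Over.forget _

set_option backward.defeqAttrib.useBackward true in
instance : (functor hG A₀ J).IsWellOrderContinuous where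
  nonempty_isColimit m hm := ⟨by
    have := hm.nonempty_Iio.to_subtype
    let c := (Set.principalSegIio m).cocone (functorToMonoOver hG A₀ J ⋙ MonoOver.forget _)
    have : Mono c.pt.hom := by dsimp [c]; infer_instance
    apply IsGrothendieckAbelian.isColimitMapCoconeOfSubobjectMkEqISup
      ((Set.principalSegIio m).monotone.functor ⋙ functorToMonoOver hG A₀ J) c
    dsimp [c]
    simp only [Subobject.mk_arrow]
    exact transfiniteIterate_limit (larger hG) A₀ m hm⟩

set_option backward.isDefEq.respectTransparency.types false in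
set_option backward.defeqAttrib.useBackward true in
variable {J} in
/-- the map from bot is a transfinite composition -/
noncomputable def transfiniteFromBot {P : MorphismProperty C} [P.RespectsIso]
    (hP : (genMono G).pushouts ≤ P) (hP' : MorphismProperty.isomorphisms C ≤ P) (j : J) :
    P.TransfiniteCompositionOfShape (Set.Iic j)
    ((functor hG A₀ J).map (homOfLE bot_le : ⊥ ⟶ j)) where
  F := (Set.initialSegIic j).monotone.functor ⋙ functor hG A₀ J
  isoBot := Iso.refl _
  incl :=
    { app k := (functor hG A₀ J).map (homOfLE k.2)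
      naturality k k' h := by simp [MonoOver.forget] }
  isColimit := colimitOfDiagramTerminal isTerminalTop _
  map_mem k hk := by
    dsimp [MonoOver.forget]
    convert!
      ofLE_pushouts hG hP hP' (transfiniteIterate (larger hG) k.1 A₀) using 2
    all_goals
      rw [Set.Iic.succ_eq_of_not_isMax hk,
        transfiniteIterate_succ _ _ _ (Set.not_isMax_coe _ hk)]

end

variable {A : C} {f : A ⟶ X} [Mono f]

set_option backward.defeqAttrib.useBackward true in
set_option backward.isDefEq.respectTransparency false in
/-- `f` is a transfinite composition -/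
noncomputable def ofEqTop {P : MorphismProperty C} [P.RespectsIso]
    (hP : (genMono G).pushouts ≤ P) (hP' : MorphismProperty.isomorphisms C ≤ P)
    {J : Type w} [LinearOrder J] [OrderBot J] [SuccOrder J] [WellFoundedLT J] {j : J}
    (hj : transfiniteIterate (larger hG) j (Subobject.mk f) = ⊤) :
    P.TransfiniteCompositionOfShape (Set.Iic j) f := by
  let t := transfiniteIterate (larger hG) j (Subobject.mk f)
  have := (Subobject.isIso_arrow_iff_eq_top t).2 hj
  apply (transfiniteFromBot hG (Subobject.mk f) hP hP' j).ofArrowIso
  refine Arrow.isoMk ((Subobject.isoOfEq _ _ (transfiniteIterate_bot _ _) ≪≫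
    Subobject.underlyingIso f)) (asIso t.arrow) ?_
  dsimp [MonoOver.forget]
  rw [assoc, Subobject.underlyingIso_hom_comp_eq_mk, Subobject.ofLE_arrow,
    Subobject.ofLE_arrow]

/-- every monomorphism is in the weakly saturated class of `genMono G`. -/
lemma mono_le_llp_rlp : MorphismProperty.monomorphisms C ≤ (genMono G).rlp.llp := by
  intro A X f (hf : Mono f)
  obtain ⟨o, j, hj⟩ := exists_ordinal hG (Subobject.mk f)
  have : Nonempty o.ToType := ⟨j⟩
  have : OrderBot o.ToType := WellFoundedLT.toOrderBot _
  have h1 : (genMono G).pushouts ≤ (genMono G).rlp.llp := by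
    rw [MorphismProperty.pushouts_le_iff]
    exact MorphismProperty.le_llp_rlp _
  have h2 : MorphismProperty.isomorphisms C ≤ (genMono G).rlp.llp := by
    intro _ _ g (hg : IsIso g)
    exact MorphismProperty.of_isIso _ g
  have h3 := ofEqTop hG h1 h2 hj
  have h4 : (genMono G).rlp.llp.transfiniteCompositionsOfShape (Set.Iic j) f := h3.mem
  exact MorphismProperty.transfiniteCompositionsOfShape_le _ _ _ h4

/-- **Baer's criterion** for a family which detects isomorphisms. -/
theorem injective (I : C)
    (h : ∀ (i : ι) (S : C) (j : S ⟶ G i) [Mono j] (φ : S ⟶ I), ∃ ψ : G i ⟶ I, j ≫ ψ = φ) :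
    Injective I := by
  rw [injective_iff_rlp_monomorphisms_zero]
  have h1 : (genMono G).rlp (0 : I ⟶ 0) := by
    rintro _ _ _ ⟨⟨i, S⟩⟩
    constructor
    intro a b sq
    obtain ⟨ψ, hψ⟩ := h i S S.arrow a
    exact ⟨⟨⟨ψ, hψ, (isZero_zero C).eq_of_tgt _ _⟩⟩⟩
  intro A B i hi
  exact mono_le_llp_rlp hG i hi _ h1

end K298.BaerFam
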