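import Mathlib.CategoryTheory.Sites.Abelian
import Mathlib.CategoryTheory.Sites.EpiMono
import Mathlib.CategoryTheory.Sites.Point.Skyscraper
import Mathlib.CategoryTheory.Abelian.Exact
import Mathlib.Algebra.Homology.ShortComplex.ExactFunctor
import Mathlib.Algebra.Category.Grp.AB
import Mathlib.CategoryTheory.Sites.Pullback
import Mathlib.CategoryTheory.Sites.ConcreteSheafification

/-!
# Exactness criteria for functors into abelian sheaves
-/

set_option autoImplicit false
universe w v u v' u'

open CategoryTheory CategoryTheory.Limits Opposite

namespace K298.ExactSh

/-- An additive left exact functor between abelian categories preserving epimorphisms preserves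
finite colimits. -/
lemma preservesFiniteColimits_of_epi {A B : Type*} [Category* A] [Category* B] [Abelian A]
    [Abelian B] (F : A ⥤ B) [F.Additive] [PreservesFiniteLimits F] [F.PreservesEpimorphisms] :
    PreservesFiniteColimits F := by
  have h := (Functor.exact_tfae F).out 0 3
  refine (h.1 ?_).2
  intro S hS
  have h1 := (Functor.preservesFiniteLimits_tfae F).out 0 3
  have h2 := h1.2 inferInstance S hS
  have := hS.epi_g
  exact { exact := h2.1
          mono_f := h2.2
          epi_g := inferInstanceAs (Epi (F.map S.g)) }

/-- An additive right exact functor between abelian categories preserving monomorphisms preserves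
finite limits. -/
lemma preservesFiniteLimits_of_mono {A B : Type*} [Category* A] [Category* B] [Abelian A]
    [Abelian B] (F : A ⥤ B) [F.Additive] [PreservesFiniteColimits F] [F.PreservesMonomorphisms] :
    PreservesFiniteLimits F := by
  have h := (Functor.exact_tfae F).out 0 3
  refine (h.1 ?_).1
  intro S hS
  have h1 := (Functor.preservesFiniteColimits_tfae F).out 0 3
  have h2 := h1.2 inferInstance S hS
  have := hS.mono_f
  exact { exact := h2.1
          epi_g := h2.2
          mono_f := inferInstanceAs (Mono (F.map S.f)) }

section

variable {C : Type u} [SmallCategory C] {J : GrothendieckTopology C}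

lemma epi_of_locallySurjective_app {F G : Sheaf J AddCommGrpCat.{u}} (φ : F ⟶ G)
    (h : ∀ U : C, Function.Surjective (φ.hom.app (op U))) : Epi φ := by
  have : Sheaf.IsLocallySurjective φ := ⟨by
    intro U s
    refine J.superset_covering ?_ (J.top_mem U)
    intro V f _
    obtain ⟨t, ht⟩ := h V (G.obj.map f.op s)
    exact ⟨t, ht⟩⟩
  infer_instance

end

end K298.ExactSh
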