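import Mathlib.CategoryTheory.ConnectedComponents
import Mathlib.CategoryTheory.Functor.Flat
import Mathlib.CategoryTheory.Adjunction.Additive
import Mathlib.CategoryTheory.Abelian.GrothendieckAxioms.Basic
import Groth.Agent.CohSite.K298.ExactSh

/-!
# Colimits over categories whose connected components are filtered

The colimit over `I` is the coproduct of the colimits over the components. If spans can be completed
and parallel pairs can be coequalized (no nonemptiness or connectedness), the components are
filtered, and `colim` preserves monomorphisms for AB5 target categories. Application: `u.op.lan` is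
exact for a functor `u` which preserves pullbacks and equalizers.
-/

set_option autoImplicit false
universe w v u v' u'

open CategoryTheory CategoryTheory.Limits Opposite

namespace K298.CompColim

section

variable {I : Type u} [SmallCategory I] {A : Type u'} [Category.{v'} A]
  [HasColimitsOfSize.{u, u} A]

/-- the coproduct of the colimits over the components -/
noncomputable abbrev pt (F : I ⥤ A) : A :=
  ∐ fun j : ConnectedComponents I => colimit (j.ι ⋙ F)

/-- the leg at `i` -/
noncomputable def leg (F : I ⥤ A) (j : ConnectedComponents I) (i : I) (hi : j.objectProperty i) :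
    F.obj i ⟶ pt F :=
  colimit.ι (j.ι ⋙ F) ⟨i, hi⟩ ≫ Sigma.ι (fun j : ConnectedComponents I => colimit (j.ι ⋙ F)) j

lemma leg_congr (F : I ⥤ A) {j j' : ConnectedComponents I} (h : j = j') (i : I)
    (hi : j.objectProperty i) (hi' : j'.objectProperty i) : leg F j i hi = leg F j' i hi' := by
  subst h
  rfl

lemma leg_naturality (F : I ⥤ A) (j : ConnectedComponents I) {i i' : I} (f : i ⟶ i')
    (hi : j.objectProperty i) (hi' : j.objectProperty i') :
    F.map f ≫ leg F j i' hi' = leg F j i hi := by
  have h := colimit.w (j.ι ⋙ F) (ObjectProperty.homMk f :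
    (⟨i, hi⟩ : j.Component) ⟶ ⟨i', hi'⟩)
  change F.map f ≫ _ = _ at h
  rw [leg, leg, ← h, Category.assoc]

lemma mk_eq_of_hom {i i' : I} (f : i ⟶ i') : CategoryTheory.ConnectedComponents.mk i = CategoryTheory.ConnectedComponents.mk i' :=
  Quotient.sound' (Zigzag.of_hom f)

/-- the colimit cocone -/
@[simps]
noncomputable def cocone (F : I ⥤ A) : Cocone F where
  pt := pt F
  ι :=
    { app i := leg F (CategoryTheory.ConnectedComponents.mk i) i rfl
      naturality i i' f := by
        dsimp
        rw [Category.comp_id, leg_congr F (mk_eq_of_hom f).symm i' rfl (mk_eq_of_hom f).symm,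
          leg_naturality] }

/-- it is a colimit cocone -/
noncomputable def isColimit (F : I ⥤ A) : IsColimit (cocone F) where
  desc s := Sigma.desc fun j => colimit.desc _ (s.whisker j.ι)
  fac s i := by
    change leg F (CategoryTheory.ConnectedComponents.mk i) i rfl ≫ _ = _
    rw [leg, Category.assoc, Sigma.ι_desc, colimit.ι_desc]
    rfl
  uniq s m hm := by
    refine Sigma.hom_ext _ _ fun j => colimit.hom_ext fun ⟨i, hi⟩ => ?_
    obtain rfl : CategoryTheory.ConnectedComponents.mk i = j := hi
    have := hm i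
    change leg F (CategoryTheory.ConnectedComponents.mk i) i rfl ≫ _ = _ at this
    rw [leg, Category.assoc] at this
    rw [this, Sigma.ι_desc, colimit.ι_desc]
    rfl

lemma mono_colimMap {F G : I ⥤ A} (α : F ⟶ G)
    (h1 : ∀ j : ConnectedComponents I, Mono (colimMap (Functor.whiskerLeft j.ι α)))
    (h2 : ∀ {X Y : ConnectedComponents I → A} (f : ∀ j, X j ⟶ Y j), (∀ j, Mono (f j)) →
      Mono (Limits.Sigma.map f)) : Mono (colimMap α) := by
  let e (F : I ⥤ A) : colimit F ≅ pt F := (colimit.isColimit F).coconePointUniqueUpToIso (isColimit F)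
  have he (F : I ⥤ A) (i : I) : colimit.ι F i ≫ (e F).hom = leg F (CategoryTheory.ConnectedComponents.mk i) i rfl :=
    IsColimit.comp_coconePointUniqueUpToIso_hom _ _ _
  have hm := h2 (fun j => colimMap (Functor.whiskerLeft j.ι α)) h1
  have key : colimMap α ≫ (e G).hom =
      (e F).hom ≫ Limits.Sigma.map (fun j => colimMap (Functor.whiskerLeft j.ι α)) := by
    refine colimit.hom_ext fun i => ?_
    rw [ι_colimMap_assoc, he, ← Category.assoc, he, leg, leg, Category.assoc,
      Sigma.ι_map, ι_colimMap_assoc]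
    rfl
  have : Mono (colimMap α ≫ (e G).hom) := by
    rw [key]
    exact mono_comp _ _
  exact mono_of_mono _ (e G).hom

end

section

variable {I : Type u} [SmallCategory I]

lemma exists_cospan_of_zigzag
    (span : ∀ {W X Y : I} (_ : W ⟶ X) (_ : W ⟶ Y), ∃ P : I, Nonempty (X ⟶ P) ∧ Nonempty (Y ⟶ P))
    {X Y : I} (h : Zigzag X Y) : ∃ P : I, Nonempty (X ⟶ P) ∧ Nonempty (Y ⟶ P) := by
  induction h with
  | refl => exact ⟨X, ⟨𝟙 X⟩, ⟨𝟙 X⟩⟩
  | tail _ hz ih =>
    obtain ⟨P, ⟨a⟩, ⟨b⟩⟩ := ih
    rcases hz with ⟨⟨g⟩⟩ | ⟨⟨g⟩⟩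
    · obtain ⟨Q, ⟨c⟩, ⟨d⟩⟩ := span b g
      exact ⟨Q, ⟨a ≫ c⟩, ⟨d⟩⟩
    · exact ⟨P, ⟨a⟩, ⟨g ≫ b⟩⟩

lemma isFiltered_component
    (span : ∀ {W X Y : I} (_ : W ⟶ X) (_ : W ⟶ Y), ∃ P : I, Nonempty (X ⟶ P) ∧ Nonempty (Y ⟶ P))
    (coeq : ∀ {X Y : I} (f g : X ⟶ Y), ∃ (Z : I) (h : Y ⟶ Z), f ≫ h = g ≫ h)
    (j : ConnectedComponents I) : IsFiltered j.Component where
  cocone_objs := by
    rintro ⟨X, hX⟩ ⟨Y, hY⟩
    obtain ⟨P, ⟨a⟩, ⟨b⟩⟩ := exists_cospan_of_zigzag span
      (Quotient.exact' (hX.trans hY.symm) : Zigzag X Y)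
    exact ⟨⟨P, (mk_eq_of_hom a).symm.trans hX⟩, ObjectProperty.homMk a, ObjectProperty.homMk b,
      trivial⟩
  cocone_maps := by
    rintro ⟨X, hX⟩ ⟨Y, hY⟩ f g
    obtain ⟨Z, h, e⟩ := coeq f.hom g.hom
    refine ⟨⟨Z, (mk_eq_of_hom h).symm.trans hY⟩, ObjectProperty.homMk h, ?_⟩
    ext
    exact e
  nonempty := inferInstance

end

section

variable {C D : Type u} [SmallCategory C] [SmallCategory D] (F : C ⥤ D)
  [HasPullbacks C] [HasEqualizers C]
  [PreservesLimitsOfShape WalkingCospan F] [PreservesLimitsOfShape WalkingParallelPair F]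

omit [HasEqualizers C] [PreservesLimitsOfShape WalkingParallelPair F] in
lemma span_costructuredArrow (d : Dᵒᵖ) {W X Y : CostructuredArrow F.op d} (f : W ⟶ X) (g : W ⟶ Y) :
    ∃ P : CostructuredArrow F.op d, Nonempty (X ⟶ P) ∧ Nonempty (Y ⟶ P) := by
  let p := pullback f.left.unop g.left.unop
  have hp := (IsPullback.of_hasPullback f.left.unop g.left.unop).map F
  have hf : X.hom.unop ≫ F.map f.left.unop = W.hom.unop := congrArg Quiver.Hom.unop (CostructuredArrow.w f)
  have hg : Y.hom.unop ≫ F.map g.left.unop = W.hom.unop := congrArg Quiver.Hom.unop (CostructuredArrow.w g)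
  let t : d.unop ⟶ F.obj p := hp.lift X.hom.unop Y.hom.unop (hf.trans hg.symm)
  refine ⟨CostructuredArrow.mk (Y := op p) t.op, ⟨CostructuredArrow.homMk
    (pullback.fst f.left.unop g.left.unop).op ?_⟩, ⟨CostructuredArrow.homMk
    (pullback.snd f.left.unop g.left.unop).op ?_⟩⟩
  · exact congrArg Quiver.Hom.op (hp.lift_fst _ _ _)
  · exact congrArg Quiver.Hom.op (hp.lift_snd _ _ _)

omit [HasPullbacks C] [PreservesLimitsOfShape WalkingCospan F] in
lemma coeq_costructuredArrow (d : Dᵒᵖ) {X Y : CostructuredArrow F.op d} (f g : X ⟶ Y) :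
    ∃ (Z : CostructuredArrow F.op d) (h : Y ⟶ Z), f ≫ h = g ≫ h := by
  let p := equalizer f.left.unop g.left.unop
  have hp := isLimitForkMapOfIsLimit F (equalizer.condition f.left.unop g.left.unop)
    (equalizerIsEqualizer f.left.unop g.left.unop)
  have hf : Y.hom.unop ≫ F.map f.left.unop = X.hom.unop := congrArg Quiver.Hom.unop (CostructuredArrow.w f)
  have hg : Y.hom.unop ≫ F.map g.left.unop = X.hom.unop := congrArg Quiver.Hom.unop (CostructuredArrow.w g)
  obtain ⟨t, ht⟩ := Fork.IsLimit.lift' hp Y.hom.unop (hf.trans hg.symm)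
  refine ⟨CostructuredArrow.mk (Y := op p) t.op, CostructuredArrow.homMk
    (equalizer.ι f.left.unop g.left.unop).op ?_, ?_⟩
  · exact congrArg Quiver.Hom.op ht
  · ext
    exact congrArg Quiver.Hom.op (equalizer.condition f.left.unop g.left.unop)

/-- `u.op.lan` preserves monomorphisms of abelian presheaves if `u` preserves pullbacks and
equalizers. -/
instance lan_preservesMonomorphisms :
    (F.op.lan : (Cᵒᵖ ⥤ AddCommGrpCat.{u}) ⥤ (Dᵒᵖ ⥤ AddCommGrpCat.{u})).PreservesMonomorphisms where
  preserves {P Q} α _ := by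
    rw [NatTrans.mono_iff_mono_app]
    intro d
    have h1 : Mono (((Functor.whiskeringLeft _ _ AddCommGrpCat.{u}).obj
        (CostructuredArrow.proj F.op d) ⋙ colim).map α) := by
      refine mono_colimMap _ (fun j => ?_) (fun {X Y} f hf => ?_)
      · have := isFiltered_component (span_costructuredArrow F d) (coeq_costructuredArrow F d) j
        have : Mono α := inferInstance
        have : Mono (Functor.whiskerLeft j.ι ((((Functor.whiskeringLeft _ _ AddCommGrpCat.{u}).obj
          (CostructuredArrow.proj F.op d))).map α)) := by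
          rw [NatTrans.mono_iff_mono_app]
          intro k
          exact inferInstanceAs (Mono (α.app _))
        exact inferInstanceAs (Mono (colim.map _))
      · have : Mono (Discrete.natTrans (F := Discrete.functor X) (G := Discrete.functor Y)
            (fun j => f j.as)) := by
          rw [NatTrans.mono_iff_mono_app]
          intro k
          exact hf k.as
        exact inferInstanceAs (Mono (colim.map _))
    have h2 := (lanEvaluationIsoColim (E := AddCommGrpCat.{u}) F.op d).hom.naturality α
    have h3 : Mono ((F.op.lan ⋙ (evaluation _ _).obj d).map α ≫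
        (lanEvaluationIsoColim (E := AddCommGrpCat.{u}) F.op d).hom.app Q) := by
      rw [h2]
      exact mono_comp _ _
    change Mono ((F.op.lan ⋙ (evaluation _ _).obj d).map α)
    exact mono_of_mono _ ((lanEvaluationIsoColim (E := AddCommGrpCat.{u}) F.op d).hom.app Q)

/-- `u.op.lan` is exact on abelian presheaves if `u` preserves pullbacks and equalizers. -/
instance lan_preservesFiniteLimits :
    PreservesFiniteLimits (F.op.lan : (Cᵒᵖ ⥤ AddCommGrpCat.{u}) ⥤ (Dᵒᵖ ⥤ AddCommGrpCat.{u})) := by
  have h1 := (F.op.lanAdjunction AddCommGrpCat.{u}).leftAdjoint_preservesColimits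
  have h2 : (F.op.lan : (Cᵒᵖ ⥤ AddCommGrpCat.{u}) ⥤ (Dᵒᵖ ⥤ AddCommGrpCat.{u})).Additive :=
    (F.op.lanAdjunction AddCommGrpCat.{u}).left_adjoint_additive
  exact ExactSh.preservesFiniteLimits_of_mono _

variable (J : GrothendieckTopology C) (K : GrothendieckTopology D) [F.IsContinuous J K]

/-- The pull back of abelian sheaves along a continuous functor which preserves pullbacks and
equalizers is exact. -/
lemma sheafPullback_preservesFiniteLimits :
    PreservesFiniteLimits (F.sheafPullback AddCommGrpCat.{u} J K) := by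
  have : PreservesFiniteLimits
      (Functor.sheafPullbackConstruction.sheafPullback F AddCommGrpCat.{u} J K) := by
    have : PreservesFiniteLimits (F.op.lan ⋙ presheafToSheaf K AddCommGrpCat.{u}) :=
      comp_preservesFiniteLimits _ _
    exact comp_preservesFiniteLimits (sheafToPresheaf J AddCommGrpCat.{u})
      (F.op.lan ⋙ presheafToSheaf K AddCommGrpCat.{u})
  exact preservesFiniteLimits_of_natIso
    (Functor.sheafPullbackConstruction.sheafPullbackIso F AddCommGrpCat.{u} J K).symm

end

end K298.CompColim
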