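import Mathlib.CategoryTheory.Sites.ConstantSheaf
import Mathlib.CategoryTheory.Sites.Abelian
import Mathlib.CategoryTheory.Sites.ConcreteSheafification
import Mathlib.CategoryTheory.Abelian.Exact
import Mathlib.Algebra.Homology.ShortComplex.ExactFunctor
import Mathlib.Algebra.Category.ModuleCat.FilteredColimits
import Mathlib.Algebra.Category.ModuleCat.Abelian
import Mathlib.Algebra.Category.ModuleCat.EpiMono
import Mathlib.Algebra.Category.Grp.FilteredColimits
import Mathlib.Algebra.Category.Grp.Abelian
import Mathlib.Algebra.Category.Grp.EpiMono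
import Mathlib.CategoryTheory.Linear.LinearFunctor
import Mathlib.Algebra.Homology.ShortComplex.ModuleCat
import Mathlib.Algebra.Homology.ShortComplex.Ab
import Mathlib.LinearAlgebra.TensorProduct.RightExactness
import Mathlib.LinearAlgebra.TensorProduct.Pi
import Mathlib.Algebra.Module.FinitePresentation
import Groth.Agent.CohSite.K298.ExactSh

/-!
# Sections of constant sheaves

`Γ J U D : D ⥤ D`, `M ↦ M̲(U)`, is an exact functor (`D` = abelian groups or modules over a ring).
-/

set_option autoImplicit false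
universe u v' u'

open CategoryTheory CategoryTheory.Limits Opposite

namespace K298.ConstSec

section

variable {C : Type u} [SmallCategory C] (J : GrothendieckTopology C) (U : C)
variable (D : Type u') [Category.{v'} D] {FD : D → D → Type*} {CD : D → Type u}
  [∀ X Y, FunLike (FD X Y) (CD X) (CD Y)] [ConcreteCategory.{u} D FD]

/-- `M ↦ M̲(U)` -/
noncomputable abbrev Γ (D : Type u') [Category.{v'} D] [HasWeakSheafify J D] : D ⥤ D :=
  constantSheaf J D ⋙ (sheafSections J D).obj (op U)

/-- sections of constant sheaves and of constant sheaves of sets -/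
noncomputable def compIso [HasWeakSheafify J D] [J.PreservesSheafification (forget D)]
    [J.HasSheafCompose (forget D)] : Γ J U D ⋙ forget D ≅ forget D ⋙ Γ J U (Type u) :=
  Functor.isoWhiskerRight (constantCommuteCompose J (forget D)) ((sheafSections J (Type u)).obj (op U))

variable {D} in
/-- A surjection of coefficients induces a surjection on all sections of the constant sheaves. -/
lemma surjective_map [HasWeakSheafify J D] [J.PreservesSheafification (forget D)]
    [J.HasSheafCompose (forget D)] {X Y : D} (g : X ⟶ Y) (hg : Function.Surjective g) :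
    Function.Surjective ((Γ J U D).map g) := by
  have h1 : IsSplitEpi ((forget D).map g) :=
    ⟨⟨⟨↾ (Function.surjInv hg), by ext x; exact Function.surjInv_eq hg x⟩⟩⟩
  have h2 : Epi ((Γ J U (Type u)).map ((forget D).map g)) := inferInstance
  have h3 : Epi ((forget D).map ((Γ J U D).map g)) := by
    have h4 := (compIso J U D).hom.naturality g
    have h5 : (forget D).map ((Γ J U D).map g) = (compIso J U D).hom.app X ≫
      (Γ J U (Type u)).map ((forget D).map g) ≫ (compIso J U D).inv.app Y := by
      rw [← Category.assoc]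
      refine (Iso.eq_comp_inv ((compIso J U D).app Y)).2 ?_
      exact h4
    rw [h5]
    infer_instance
  exact (epi_iff_surjective _).1 h3

end

section

variable {C : Type u} [SmallCategory C] (J : GrothendieckTopology C) (U : C)
  (D : Type u') [Category.{v'} D] [HasFiniteLimits D] [HasSheafify J D]

instance preservesFiniteLimits_sections : PreservesFiniteLimits ((sheafSections J D).obj (op U)) where
  preservesFiniteLimits S _ _ := by
   exact
    inferInstanceAs (PreservesLimitsOfShape S (sheafToPresheaf J D ⋙ (evaluation _ _).obj (op U)))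

instance preservesFiniteLimits_const : PreservesFiniteLimits (Functor.const Cᵒᵖ : D ⥤ _) where
  preservesFiniteLimits S _ _ := inferInstance

instance preservesFiniteLimits_Γ : PreservesFiniteLimits (Γ J U D) := by
  have h2 : PreservesFiniteLimits (presheafToSheaf J D) := inferInstance
  have h3 : PreservesFiniteLimits (constantSheaf J D) := comp_preservesFiniteLimits _ _
  exact comp_preservesFiniteLimits _ _

end

section Ab

variable {C : Type u} [SmallCategory C] (J : GrothendieckTopology C) (U : C)

instance : (Γ J U AddCommGrpCat.{u}).PreservesEpimorphisms where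
  preserves g hg := (AddCommGrpCat.epi_iff_surjective _).2
    (surjective_map J U g ((AddCommGrpCat.epi_iff_surjective _).1 hg))

instance : (Γ J U AddCommGrpCat.{u}).Additive :=
  Functor.additive_of_preserves_binary_products _

instance : PreservesFiniteColimits (Γ J U AddCommGrpCat.{u}) :=
  ExactSh.preservesFiniteColimits_of_epi _

variable (Λ : Type u) [CommRing Λ]

instance : (Γ J U (ModuleCat.{u} Λ)).PreservesEpimorphisms where
  preserves g hg := (ModuleCat.epi_iff_surjective _).2
    (surjective_map J U g ((ModuleCat.epi_iff_surjective _).1 hg))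

instance : (Γ J U (ModuleCat.{u} Λ)).Additive :=
  Functor.additive_of_preserves_binary_products _

instance : PreservesFiniteColimits (Γ J U (ModuleCat.{u} Λ)) :=
  ExactSh.preservesFiniteColimits_of_epi _

/-- multiplication by `r` on a presheaf of modules -/
noncomputable def rho (r : Λ) (P : Cᵒᵖ ⥤ ModuleCat.{u} Λ) : P ⟶ P where
  app X := r • 𝟙 _
  naturality X Y f := by simp

lemma rho_naturality (r : Λ) {P Q : Cᵒᵖ ⥤ ModuleCat.{u} Λ} (f : P ⟶ Q) :
    rho Λ r P ≫ f = f ≫ rho Λ r Q := by
  ext X : 2
  simp [rho]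

lemma sheafifyMap_rho (r : Λ) (P : Cᵒᵖ ⥤ ModuleCat.{u} Λ) :
    sheafifyMap J (rho Λ r P) = rho Λ r (sheafify J P) := by
  apply sheafify_hom_ext
  · exact ((presheafToSheaf J _).obj P).property
  · rw [← toSheafify_naturality, rho_naturality]

instance : (Γ J U (ModuleCat.{u} Λ)).Linear Λ where
  map_smul {M N} f r := by
    have h1 : r • f = f ≫ (r • 𝟙 N) := by simp
    have h2 : (Γ J U (ModuleCat.{u} Λ)).map (r • 𝟙 N) = r • 𝟙 _ := by
      have h3 := NatTrans.congr_app (sheafifyMap_rho J Λ r ((Functor.const _).obj N)) (op U)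
      exact h3
    rw [h1, Functor.map_comp, h2]
    simp

end Ab

section Tensor

variable (Λ : Type u) [CommRing Λ] (G : ModuleCat.{u} Λ ⥤ ModuleCat.{u} Λ) [G.Additive] [G.Linear Λ]
  (M : Type u) [AddCommGroup M] [Module Λ M]

open TensorProduct

/-- `G(M) ⊗ Q → G(M ⊗ Q)` -/
noncomputable def comp (Q : Type u) [AddCommGroup Q] [Module Λ Q] :
    (G.obj (ModuleCat.of Λ M)) ⊗[Λ] Q →ₗ[Λ] (G.obj (ModuleCat.of Λ (M ⊗[Λ] Q))) :=
  TensorProduct.lift (LinearMap.flip
    { toFun := fun q => (G.map (ModuleCat.ofHom ((TensorProduct.mk Λ M Q).flip q))).hom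
      map_add' := fun q q' => by
        rw [map_add, ModuleCat.ofHom_add, G.map_add]
        rfl
      map_smul' := fun r q => by
        rw [map_smul]
        have : ModuleCat.ofHom (r • (TensorProduct.mk Λ M Q).flip q) =
          r • ModuleCat.ofHom ((TensorProduct.mk Λ M Q).flip q) := rfl
        rw [this, G.map_smul]
        rfl })

lemma comp_tmul (Q : Type u) [AddCommGroup Q] [Module Λ Q] (s : G.obj (ModuleCat.of Λ M)) (q : Q) :
    comp Λ G M Q (s ⊗ₜ q) = (G.map (ModuleCat.ofHom ((TensorProduct.mk Λ M Q).flip q))).hom s := rfl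

lemma comp_naturality {Q Q' : Type u} [AddCommGroup Q] [Module Λ Q] [AddCommGroup Q'] [Module Λ Q']
    (h : Q →ₗ[Λ] Q') (x : (G.obj (ModuleCat.of Λ M)) ⊗[Λ] Q) :
    comp Λ G M Q' (h.lTensor _ x) = (G.map (ModuleCat.ofHom (h.lTensor M))).hom (comp Λ G M Q x) := by
  induction x with
  | zero => simp
  | add x y hx hy => simp only [map_add, hx, hy]
  | tmul s q =>
    rw [LinearMap.lTensor_tmul, comp_tmul, comp_tmul]
    have h1 : ModuleCat.ofHom ((TensorProduct.mk Λ M Q').flip (h q)) =
      ModuleCat.ofHom ((TensorProduct.mk Λ M Q).flip q) ≫ ModuleCat.ofHom (h.lTensor M) := by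
      ext m
      simp
    rw [h1, G.map_comp]
    rfl

variable {Λ} in
/-- the coordinate `M ⊗ Λⁿ → M` -/
noncomputable def coord {n : ℕ} (i : Fin n) : M ⊗[Λ] (Fin n → Λ) →ₗ[Λ] M :=
  (TensorProduct.rid Λ M).toLinearMap ∘ₗ (LinearMap.lTensor M (LinearMap.proj i))

variable {Λ} in
lemma coord_tmul {n : ℕ} (i : Fin n) (m : M) (v : Fin n → Λ) : coord M i (m ⊗ₜ v) = v i • m := by
  simp [coord]

/-- inverse of the comparison map for free modules -/
noncomputable def invFree {n : ℕ} (z : G.obj (ModuleCat.of Λ (M ⊗[Λ] (Fin n → Λ)))) :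
    (G.obj (ModuleCat.of Λ M)) ⊗[Λ] (Fin n → Λ) :=
  ∑ i : Fin n, ((G.map (ModuleCat.ofHom (coord M i))).hom z) ⊗ₜ (Pi.single i (1 : Λ) : Fin n → Λ)

lemma comp_invFree {n : ℕ} (z : G.obj (ModuleCat.of Λ (M ⊗[Λ] (Fin n → Λ)))) :
    comp Λ G M (Fin n → Λ) (invFree Λ G M z) = z := by
  rw [invFree, map_sum]
  simp only [comp_tmul]
  have h1 : ∀ i : Fin n, (G.map (ModuleCat.ofHom ((TensorProduct.mk Λ M (Fin n → Λ)).flip
      (Pi.single i (1 : Λ))))).hom ((G.map (ModuleCat.ofHom (coord M i))).hom z) =
      (G.map (ModuleCat.ofHom (((TensorProduct.mk Λ M (Fin n → Λ)).flip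
        (Pi.single i (1 : Λ))) ∘ₗ coord M i))).hom z := by
    intro i
    rw [ModuleCat.ofHom_comp, G.map_comp]
    rfl
  simp only [h1]
  have h2 : (∑ i : Fin n, (ModuleCat.ofHom (((TensorProduct.mk Λ M (Fin n → Λ)).flip
        (Pi.single i (1 : Λ))) ∘ₗ coord M i))) = 𝟙 (ModuleCat.of Λ (M ⊗[Λ] (Fin n → Λ))) := by
    apply ModuleCat.hom_ext
    rw [ModuleCat.hom_sum]
    apply TensorProduct.ext'
    intro m v
    rw [LinearMap.sum_apply]
    simp only [ModuleCat.hom_ofHom, LinearMap.comp_apply, coord_tmul, LinearMap.flip_apply, TensorProduct.mk_apply,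
      ModuleCat.hom_id, LinearMap.id_apply, TensorProduct.smul_tmul]
    rw [← TensorProduct.tmul_sum]
    congr 1
    ext j
    simp [Finset.sum_apply, Pi.single_apply]
  have h3 := congrArg (fun t => (G.map t).hom z) h2
  simp only [G.map_sum, G.map_id, ModuleCat.hom_sum, LinearMap.sum_apply] at h3
  exact h3

lemma invFree_comp {n : ℕ} (x : (G.obj (ModuleCat.of Λ M)) ⊗[Λ] (Fin n → Λ)) :
    invFree Λ G M (comp Λ G M (Fin n → Λ) x) = x := by
  induction x with
  | zero => simp [invFree]
  | add x y hx hy =>
    have : invFree Λ G M (comp Λ G M (Fin n → Λ) (x + y)) =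
      invFree Λ G M (comp Λ G M (Fin n → Λ) x) + invFree Λ G M (comp Λ G M (Fin n → Λ) y) := by
      simp only [invFree, map_add, TensorProduct.add_tmul, Finset.sum_add_distrib]
    rw [this, hx, hy]
  | tmul s v =>
    rw [comp_tmul, invFree]
    have h1 : ∀ i : Fin n, (G.map (ModuleCat.ofHom (coord M i))).hom
        ((G.map (ModuleCat.ofHom ((TensorProduct.mk Λ M (Fin n → Λ)).flip v))).hom s) = v i • s := by
      intro i
      have h2 : ModuleCat.ofHom ((TensorProduct.mk Λ M (Fin n → Λ)).flip v) ≫ ModuleCat.ofHom (coord M i) =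
        v i • 𝟙 (ModuleCat.of Λ M) := by
        ext m
        simp [coord_tmul]
      have h3 := congrArg (fun t => (G.map t).hom s) h2
      simp only [G.map_comp, G.map_smul, G.map_id] at h3
      exact h3
    simp only [h1, TensorProduct.smul_tmul]
    rw [← TensorProduct.tmul_sum]
    congr 1
    ext j
    simp [Finset.sum_apply, Pi.single_apply]

lemma comp_bijective_free (n : ℕ) : Function.Bijective (comp Λ G M (Fin n → Λ)) :=
  Function.bijective_iff_has_inverse.2 ⟨invFree Λ G M, invFree_comp Λ G M, comp_invFree Λ G M⟩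

/-- `G(M) ⊗ Q → G(M ⊗ Q)` is bijective for `G` exact and `Q` of finite presentation. -/
theorem comp_bijective [PreservesFiniteColimits G]
    (Q : Type u) [AddCommGroup Q] [Module Λ Q] [Module.FinitePresentation Λ Q] :
    Function.Bijective (comp Λ G M Q) := by
  obtain ⟨n, m, f, g, hf, hfg⟩ := Module.FinitePresentation.exists_fin' Λ Q
  let S : ShortComplex (ModuleCat.{u} Λ) := ShortComplex.mk (ModuleCat.ofHom (g.lTensor M))
    (ModuleCat.ofHom (f.lTensor M)) (by
      ext : 1
      rw [ModuleCat.hom_comp, ModuleCat.hom_ofHom, ModuleCat.hom_ofHom, ← LinearMap.lTensor_comp,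
        hfg.linearMap_comp_eq_zero, LinearMap.lTensor_zero]
      rfl)
  have hS : S.Exact := (ShortComplex.ShortExact.moduleCat_exact_iff_function_exact S).2
    (lTensor_exact M hfg hf)
  have hS2 : Epi S.g := (ModuleCat.epi_iff_surjective _).2 (LinearMap.lTensor_surjective M hf)
  have h0 := (Functor.preservesFiniteColimits_tfae G).out 1 3
  have h1 := h0.2 inferInstance S ⟨hS, hS2⟩
  have h2 : Function.Surjective (G.map (ModuleCat.ofHom (f.lTensor M))).hom :=
    (ModuleCat.epi_iff_surjective _).1 h1.2
  have h3 : Function.Exact (G.map (ModuleCat.ofHom (g.lTensor M))).hom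
      (G.map (ModuleCat.ofHom (f.lTensor M))).hom :=
    (ShortComplex.ShortExact.moduleCat_exact_iff_function_exact _).1 h1.1
  constructor
  · rw [injective_iff_map_eq_zero]
    intro x hx
    obtain ⟨x', rfl⟩ := LinearMap.lTensor_surjective (G.obj (ModuleCat.of Λ M)) hf x
    rw [comp_naturality] at hx
    obtain ⟨y, hy⟩ := (h3 _).1 hx
    obtain ⟨y', rfl⟩ := (comp_bijective_free Λ G M m).2 y
    have h4 : x' = g.lTensor _ y' := by
      apply (comp_bijective_free Λ G M n).1
      rw [← hy, comp_naturality]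
    rw [h4, ← LinearMap.comp_apply, ← LinearMap.lTensor_comp, hfg.linearMap_comp_eq_zero,
      LinearMap.lTensor_zero, LinearMap.zero_apply]
  · intro z
    obtain ⟨z', rfl⟩ := h2 z
    obtain ⟨x, rfl⟩ := (comp_bijective_free Λ G M n).2 z'
    exact ⟨f.lTensor _ x, comp_naturality Λ G M f x⟩

end Tensor

end K298.ConstSec
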