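import Mathlib.AlgebraicTopology.AlternatingFaceMapComplex
import Mathlib.Algebra.Homology.HomologicalComplexAbelian
import Mathlib.CategoryTheory.Abelian.FunctorCategory
import Groth.Agent.Etrest.RDer1
import Groth.Agent.Localalg.DeltaFun

/-!
# Derived limits over the simplex category

For an abelian category `A` with enough limits, the right derived functors of
`lim : (SimplexCategory ⥤ A) ⥤ A` are the cohomology objects of the alternating coface complex.
-/

set_option autoImplicit false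
universe v u

open CategoryTheory CategoryTheory.Limits AlgebraicTopology Simplicial
open Groth.Agent.Localalg.DeltaFun

namespace K298.CosimpLim

/-! ### Extending a simplex by a new zeroth vertex -/

/-- `f̃ 0 = 0`, `f̃ (i + 1) = f i`. -/
def ext {n : ℕ} {k : SimplexCategory} (f : ⦋n⦌ ⟶ k) : ⦋n + 1⦌ ⟶ k :=
  SimplexCategory.Hom.mk
    { toFun := fun (i : Fin (n + 2)) => (Fin.cases 0 (fun j => f.toOrderHom j) i : Fin (k.len + 1))
      monotone' := by
        intro i j h
        induction i using Fin.cases with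
        | zero => exact Fin.zero_le _
        | succ i =>
          induction j using Fin.cases with
          | zero => exact absurd h (by simp)
          | succ j =>
            simp only [Fin.cases_succ]
            exact f.toOrderHom.monotone (by simpa using h) }

@[simp] lemma ext_zero {n : ℕ} {k : SimplexCategory} (f : ⦋n⦌ ⟶ k) :
    (ext f).toOrderHom (0 : Fin (n + 2)) = 0 := rfl

@[simp] lemma ext_succ {n : ℕ} {k : SimplexCategory} (f : ⦋n⦌ ⟶ k) (i : Fin (n + 1)) :
    (ext f).toOrderHom (i.succ : Fin (n + 2)) = f.toOrderHom i := rfl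

lemma δ_zero_ext {n : ℕ} {k : SimplexCategory} (f : ⦋n⦌ ⟶ k) :
    SimplexCategory.δ 0 ≫ ext f = f := by
  ext i
  rfl

lemma δ_succ_ext {n : ℕ} {k : SimplexCategory} (f : ⦋n + 1⦌ ⟶ k) (i : Fin (n + 2)) :
    SimplexCategory.δ i.succ ≫ ext f = ext (SimplexCategory.δ i ≫ f) := by
  ext j
  change ((ext f).toOrderHom (i.succ.succAbove j)).val = _
  induction j using Fin.cases with
  | zero =>
    rw [Fin.succ_succAbove_zero]
    rfl
  | succ j =>
    rw [Fin.succ_succAbove_succ]
    rfl

variable {A : Type u} [Category.{v} A] [Abelian A]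

/-! ### The complex -/

variable (A) in
/-- the alternating coface complex -/
noncomputable abbrev alt : (SimplexCategory ⥤ A) ⥤ CochainComplex A ℕ :=
  alternatingCofaceMapComplex A

lemma alt_d (F : SimplexCategory ⥤ A) (n : ℕ) :
    ((alt A).obj F).d n (n + 1) = AlternatingCofaceMapComplex.objD F n :=
  CochainComplex.of_d (fun n => F.obj ⦋n⦌) (AlternatingCofaceMapComplex.objD F) n

instance : (alt A).Additive where
  map_add {F G} f g := by
    ext n
    rfl

lemma alt_shortExact (S : ShortComplex (SimplexCategory ⥤ A)) (hS : S.ShortExact) :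
    (S.map (alt A)).ShortExact := by
  refine HomologicalComplex.shortExact_of_degreewise_shortExact _ fun n => ?_
  exact hS.map_of_exact ((evaluation SimplexCategory A).obj ⦋n⦌)

/-- the delta functor `Hⁿ(alt F)` -/
noncomputable def altDelta : DeltaFunctor (SimplexCategory ⥤ A) A where
  T n := alt A ⋙ HomologicalComplex.homologyFunctor A _ n
  additive _ := inferInstance
  δ := fun {S} hS n => (alt_shortExact S hS).δ n (n + 1) rfl
  naturality := fun {S S'} hS hS' φ n =>
    (HomologicalComplex.HomologySequence.δ_naturality ((alt A).mapShortComplex.map φ)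
      (alt_shortExact S hS) (alt_shortExact S' hS') n (n + 1) rfl).symm
  zero₃ := fun {S} hS n => (alt_shortExact S hS).comp_δ n (n + 1) rfl
  zero₁ := fun {S} hS n => (alt_shortExact S hS).δ_comp n (n + 1) rfl
  exact₂ := fun {S} hS n => (alt_shortExact S hS).homology_exact₂ n
  exact₃ := fun {S} hS n => (alt_shortExact S hS).homology_exact₃ n (n + 1) rfl
  exact₁ := fun {S} hS n => (alt_shortExact S hS).homology_exact₁ n (n + 1) rfl

/-! ### The coinduced object -/

section

variable [HasLimitsOfSize.{0, 0} A]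

variable (F : SimplexCategory ⥤ A)

/-- `n ↦ ∏_{k, f : n ⟶ k} F k`. -/
noncomputable def R : SimplexCategory ⥤ A where
  obj n := ∏ᶜ fun x : Σ k : SimplexCategory, (n ⟶ k) => F.obj x.1
  map {n m} α := Pi.lift (fun x : Σ k : SimplexCategory, (m ⟶ k) =>
    Pi.π (fun x : Σ k : SimplexCategory, (n ⟶ k) => F.obj x.1) ⟨x.1, α ≫ x.2⟩)
  map_id n := by
    refine Pi.hom_ext _ _ fun x => ?_
    rw [Pi.lift_π, Category.id_comp, Category.id_comp]
  map_comp α β := by
    refine Pi.hom_ext _ _ fun x => ?_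
    simp only [Pi.lift_π, Category.assoc]
    rw [Category.assoc]

/-- projection -/
noncomputable def pr {n k : SimplexCategory} (f : n ⟶ k) : (R F).obj n ⟶ F.obj k :=
  Pi.π (fun x : Σ k : SimplexCategory, (n ⟶ k) => F.obj x.1) ⟨k, f⟩

/-- maps into `R F` -/
noncomputable def lft {n : SimplexCategory} {W : A}
    (g : ∀ (k : SimplexCategory) (_ : n ⟶ k), W ⟶ F.obj k) : W ⟶ (R F).obj n :=
  Pi.lift (fun x : Σ k : SimplexCategory, (n ⟶ k) => g x.1 x.2)

omit [Abelian A] in
lemma lft_pr {n : SimplexCategory} {W : A} (g : ∀ (k : SimplexCategory) (_ : n ⟶ k), W ⟶ F.obj k)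
    {k : SimplexCategory} (f : n ⟶ k) : lft F g ≫ pr F f = g k f :=
  Pi.lift_π _ _

omit [Abelian A] in
lemma map_pr {n m k : SimplexCategory} (α : n ⟶ m) (f : m ⟶ k) :
    (R F).map α ≫ pr F f = pr F (α ≫ f) :=
  Pi.lift_π _ _

omit [Abelian A] in
lemma pr_ext {n : SimplexCategory} {W : A} {a b : W ⟶ (R F).obj n}
    (h : ∀ {k : SimplexCategory} (f : n ⟶ k), a ≫ pr F f = b ≫ pr F f) : a = b :=
  Pi.hom_ext _ _ fun x => h x.2

/-- the unit -/
@[simps]
noncomputable def η : F ⟶ R F where
  app n := lft F (fun _ f => F.map f)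
  naturality n m α := pr_ext F fun f => by
    rw [Category.assoc, lft_pr, Category.assoc, map_pr, lft_pr, F.map_comp]

instance : Mono (η F) := by
  rw [NatTrans.mono_iff_mono_app]
  intro n
  refine ⟨fun a b h => ?_⟩
  have := h =≫ pr F (𝟙 n)
  simpa only [η_app, Category.assoc, lft_pr, F.map_id, Category.comp_id] using this

/-- the extra codegeneracy -/
noncomputable def s (n : ℕ) : (R F).obj ⦋n + 1⦌ ⟶ (R F).obj ⦋n⦌ :=
  lft F (fun _ f => pr F (ext f))

omit [Abelian A] in
lemma s_pr (n : ℕ) {k : SimplexCategory} (f : ⦋n⦌ ⟶ k) : s F n ≫ pr F f = pr F (ext f) :=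
  lft_pr F _ f

omit [Abelian A] in
lemma δ_zero_s (n : ℕ) : CosimplicialObject.δ (R F) (0 : Fin (n + 2)) ≫ s F n = 𝟙 _ :=
  pr_ext F fun f => by
    rw [Category.assoc, s_pr, CosimplicialObject.δ, map_pr, δ_zero_ext, Category.id_comp]

omit [Abelian A] in
lemma δ_succ_s (n : ℕ) (i : Fin (n + 2)) :
    CosimplicialObject.δ (R F) i.succ ≫ s F (n + 1) = s F n ≫ CosimplicialObject.δ (R F) i :=
  pr_ext F fun f => by
    rw [Category.assoc, s_pr, CosimplicialObject.δ, map_pr, δ_succ_ext, Category.assoc,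
      CosimplicialObject.δ, map_pr, s_pr]

lemma homotopy (n : ℕ) :
    AlternatingCofaceMapComplex.objD (R F) (n + 1) ≫ s F (n + 1) +
      s F n ≫ AlternatingCofaceMapComplex.objD (R F) n = 𝟙 _ := by
  rw [AlternatingCofaceMapComplex.objD, AlternatingCofaceMapComplex.objD,
    Fin.sum_univ_succ, Preadditive.add_comp, Preadditive.sum_comp, Preadditive.comp_sum]
  have h0 : ((-1 : ℤ) ^ ((0 : Fin (n + 1 + 2)) : ℕ) • CosimplicialObject.δ (R F) 0) ≫ s F (n + 1) =
      𝟙 _ := by
    rw [Fin.val_zero, pow_zero, one_smul, δ_zero_s]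
  rw [h0, add_assoc, ← Finset.sum_add_distrib, Finset.sum_eq_zero, add_zero]
  intro i _
  rw [Preadditive.zsmul_comp, Preadditive.comp_zsmul, δ_succ_s, Fin.val_succ, pow_succ]
  simp

lemma comp_s_d {n : ℕ} {W : A} (x : W ⟶ (R F).obj ⦋n + 1⦌)
    (hx : x ≫ AlternatingCofaceMapComplex.objD (R F) (n + 1) = 0) :
    (x ≫ s F n) ≫ AlternatingCofaceMapComplex.objD (R F) n = x := by
  have h := x ≫= homotopy F n
  rw [Preadditive.comp_add, ← Category.assoc, hx, zero_comp, zero_add] at h
  rw [Category.assoc]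
  exact h.trans (Category.comp_id x)

lemma isZero_homology_R (n : ℕ) : IsZero (((alt A).obj (R F)).homology (n + 1)) := by
  rw [← HomologicalComplex.exactAt_iff_isZero_homology,
    HomologicalComplex.exactAt_iff' _ n (n + 1) (n + 1 + 1) (by simp) (by simp),
    ShortComplex.exact_iff_exact_up_to_refinements]
  intro W x hx
  refine ⟨W, 𝟙 W, inferInstance, x ≫ s F n, ?_⟩
  change x ≫ ((alt A).obj (R F)).d (n + 1) (n + 1 + 1) = 0 at hx
  rw [alt_d] at hx
  change 𝟙 W ≫ x = (x ≫ s F n) ≫ ((alt A).obj (R F)).d n (n + 1)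
  rw [alt_d, Category.id_comp]
  exact (comp_s_d F x hx).symm

lemma altDelta_effaceable : (altDelta (A := A)).Effaceable := by
  intro I _ n
  obtain ⟨r, hr⟩ := Injective.factors (𝟙 I) (η I)
  have h1 : IsZero (((altDelta (A := A)).T (n + 1)).obj (R I)) := isZero_homology_R I n
  rw [IsZero.iff_id_eq_zero]
  have h2 := congrArg ((altDelta (A := A)).T (n + 1)).map hr
  rw [Functor.map_comp, CategoryTheory.Functor.map_id, h1.eq_of_tgt (((altDelta (A := A)).T (n + 1)).map (η I)) 0,
    zero_comp] at h2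
  exact h2.symm

end

/-! ### Degree zero -/

section

open SimplexCategory

variable (F : SimplexCategory ⥤ A)

lemma objD_zero : AlternatingCofaceMapComplex.objD F 0 =
    F.map (SimplexCategory.δ (0 : Fin 2)) - F.map (SimplexCategory.δ (1 : Fin 2)) := by
  rw [AlternatingCofaceMapComplex.objD, Fin.sum_univ_two, sub_eq_add_neg]
  congr 1
  · exact one_smul ℤ _
  · exact neg_one_smul ℤ _

lemma comp_d_iff {W : A} (x : W ⟶ F.obj ⦋0⦌) :
    (show W ⟶ ((alt A).obj F).X 0 from x) ≫ ((alt A).obj F).d 0 1 = 0 ↔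
      x ≫ F.map (SimplexCategory.δ (0 : Fin 2)) = x ≫ F.map (SimplexCategory.δ (1 : Fin 2)) := by
  rw [alt_d, objD_zero]
  change x ≫ (F.map (SimplexCategory.δ (0 : Fin 2)) - F.map (SimplexCategory.δ (1 : Fin 2))) = 0 ↔ _
  rw [Preadditive.comp_sub, sub_eq_zero]

omit [Abelian A] in
/-- a cycle of degree `0` agrees on all vertices -/
lemma map_const_eq {W : A} (x : W ⟶ F.obj ⦋0⦌)
    (hx : x ≫ F.map (SimplexCategory.δ (0 : Fin 2)) = x ≫ F.map (SimplexCategory.δ (1 : Fin 2)))
    (n : SimplexCategory) (j : Fin (n.len + 1)) :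
    x ≫ F.map (SimplexCategory.const ⦋0⦌ n j) = x ≫ F.map (SimplexCategory.const ⦋0⦌ n 0) := by
  have h0 : SimplexCategory.δ (0 : Fin 2) ≫ SimplexCategory.mkOfLe 0 j (Fin.zero_le _) =
      SimplexCategory.const ⦋0⦌ ⦋n.len⦌ j := by
    ext i
    fin_cases i
    rfl
  have h1 : SimplexCategory.δ (1 : Fin 2) ≫ SimplexCategory.mkOfLe 0 j (Fin.zero_le _) =
      SimplexCategory.const ⦋0⦌ ⦋n.len⦌ 0 := by
    ext i
    fin_cases i
    rfl
  change x ≫ F.map (SimplexCategory.const ⦋0⦌ ⦋n.len⦌ j) =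
    x ≫ F.map (SimplexCategory.const ⦋0⦌ ⦋n.len⦌ 0)
  rw [← h0, ← h1, F.map_comp, F.map_comp, ← Category.assoc, ← Category.assoc]
  exact hx =≫ _

/-- the cone of a cycle of degree `0` -/
@[simps]
def coneOf {W : A} (x : W ⟶ F.obj ⦋0⦌)
    (hx : x ≫ F.map (SimplexCategory.δ (0 : Fin 2)) = x ≫ F.map (SimplexCategory.δ (1 : Fin 2))) : Cone F where
  pt := W
  π :=
    { app n := x ≫ F.map (SimplexCategory.const ⦋0⦌ n 0)
      naturality n m α := by
        dsimp
        rw [Category.id_comp, Category.assoc, ← F.map_comp, SimplexCategory.const_comp]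
        exact (map_const_eq F x hx m _).symm }

variable [HasLimitsOfShape SimplexCategory A]

omit [Abelian A] in
lemma π_zero_map (n : SimplexCategory) (j : Fin (n.len + 1)) :
    limit.π F ⦋0⦌ ≫ F.map (SimplexCategory.const ⦋0⦌ n j) = limit.π F n :=
  limit.w _ _

instance : Mono (limit.π F ⦋0⦌) := by
  refine ⟨fun a b h => limit.hom_ext fun n => ?_⟩
  rw [← π_zero_map F n 0, ← Category.assoc, h, Category.assoc]

lemma π_zero_d : (show limit F ⟶ ((alt A).obj F).X 0 from limit.π F ⦋0⦌) ≫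
    ((alt A).obj F).d 0 1 = 0 :=
  (comp_d_iff F _).2 ((limit.w F _).trans (limit.w F _).symm)

/-- `lim F ⟶ Z⁰` -/
noncomputable def toCycles : limit F ⟶ ((alt A).obj F).cycles 0 :=
  ((alt A).obj F).liftCycles (limit.π F ⦋0⦌) 1 (by simp) (π_zero_d F)

/-- `Z⁰ ⟶ F [0]` -/
noncomputable def iZ : ((alt A).obj F).cycles 0 ⟶ F.obj ⦋0⦌ := ((alt A).obj F).iCycles 0

instance : Mono (iZ F) := inferInstanceAs (Mono (((alt A).obj F).iCycles 0))

lemma toCycles_i : toCycles F ≫ iZ F = limit.π F ⦋0⦌ :=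
  HomologicalComplex.liftCycles_i _ _ _ _ _

omit [HasLimitsOfShape SimplexCategory A] in
lemma iZ_eq : iZ F ≫ F.map (SimplexCategory.δ (0 : Fin 2)) =
    iZ F ≫ F.map (SimplexCategory.δ (1 : Fin 2)) :=
  (comp_d_iff F _).1 (((alt A).obj F).iCycles_d 0 1)

instance : IsIso (toCycles F) := by
  have h1 : Mono (toCycles F) := by
    have : Mono (toCycles F ≫ iZ F) := by
      rw [toCycles_i]
      infer_instance
    exact mono_of_mono _ (iZ F)
  have h2 : limit.lift F (coneOf F (iZ F) (iZ_eq F)) ≫ toCycles F = 𝟙 _ := by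
    rw [← cancel_mono (iZ F), Category.assoc, toCycles_i, limit.lift_π, coneOf_π_app,
      SimplexCategory.const_eq_id, F.map_id]
    exact (Category.comp_id _).trans (Category.id_comp _).symm
  have h3 : IsSplitEpi (toCycles F) := ⟨⟨⟨_, h2⟩⟩⟩
  exact isIso_of_mono_of_epi _

omit [HasLimitsOfShape SimplexCategory A] in
lemma cyclesMap_iZ {F G : SimplexCategory ⥤ A} (f : F ⟶ G) :
    HomologicalComplex.cyclesMap ((alt A).map f) 0 ≫ iZ G = iZ F ≫ f.app ⦋0⦌ :=
  HomologicalComplex.cyclesMap_i _ _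

/-- `lim ⟶ H⁰` -/
noncomputable def κ : (lim : (SimplexCategory ⥤ A) ⥤ A) ⟶ (altDelta (A := A)).T 0 where
  app F := toCycles F ≫ ((alt A).obj F).homologyπ 0
  naturality F G f := by
    change lim.map f ≫ toCycles G ≫ ((alt A).obj G).homologyπ 0 =
      (toCycles F ≫ ((alt A).obj F).homologyπ 0) ≫
        HomologicalComplex.homologyMap ((alt A).map f) 0
    rw [Category.assoc, HomologicalComplex.homologyπ_naturality, ← Category.assoc, ← Category.assoc]
    congr 1
    rw [← cancel_mono (iZ G), Category.assoc, toCycles_i, Category.assoc,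
      cyclesMap_iZ, ← Category.assoc, toCycles_i]
    exact limMap_π _ _

instance (F : SimplexCategory ⥤ A) : IsIso (κ.app F) :=
  inferInstanceAs (IsIso (toCycles F ≫ ((alt A).obj F).homologyπ 0))

instance : IsIso (κ (A := A)) := NatIso.isIso_of_isIso_app _

end

/-- the right derived functors as a delta functor -/
noncomputable def rdDelta {B : Type*} [Category* B] [Abelian B] [EnoughInjectives B] (G : B ⥤ A)
    [G.Additive] : DeltaFunctor B A where
  T n := G.rightDerived n
  additive n := Groth.Agent.Etrest.RDer1.rightDerived_additive G n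
  δ hS n := Groth.Agent.Etrest.RDer1.δ G hS n
  naturality hS hS' φ n := (Groth.Agent.Etrest.RDer1.δ_naturality G hS hS' φ n).symm
  zero₃ hS n := Groth.Agent.Etrest.RDer1.comp_δ G hS n
  zero₁ hS n := Groth.Agent.Etrest.RDer1.δ_comp G hS n
  exact₂ hS n := Groth.Agent.Etrest.RDer1.exact₂ G hS n
  exact₃ hS n := Groth.Agent.Etrest.RDer1.exact₃ G hS n
  exact₁ hS n := Groth.Agent.Etrest.RDer1.exact₁ G hS n

/-- **Derived limits over the simplex category.** -/
theorem exists_iso [HasLimitsOfSize.{0, 0} A] [HasLimitsOfShape SimplexCategory A]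
    [EnoughInjectives (SimplexCategory ⥤ A)]
    [(lim : (SimplexCategory ⥤ A) ⥤ A).Additive] (n : ℕ) :
    Nonempty ((lim : (SimplexCategory ⥤ A) ⥤ A).rightDerived n ≅
      alt A ⋙ HomologicalComplex.homologyFunctor A _ n) := by
  obtain ⟨E, -⟩ := Groth.Agent.Localalg.DeltaFun.exists_iso
    (T := rdDelta (lim : (SimplexCategory ⥤ A) ⥤ A)) (T' := altDelta (A := A))
    (fun J _ n => (lim : (SimplexCategory ⥤ A) ⥤ A).isZero_rightDerived_obj_injective_succ n J)
    altDelta_effaceable
    ((lim : (SimplexCategory ⥤ A) ⥤ A).rightDerivedZeroIsoSelf ≪≫ asIso κ)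
  exact ⟨E n⟩

end K298.CosimpLim
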