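import Mathlib.CategoryTheory.Sites.CoverLifting
import Mathlib.CategoryTheory.Sites.Pullback
import Mathlib.CategoryTheory.Sites.Over
import Mathlib.CategoryTheory.Adjunction.Triple
import Mathlib.Algebra.Category.Grp.Limits

/-!
# Fully faithful continuous and cocontinuous functors of sites

* `isIso_counit_app`, `isIso_unit_app`: for `G : C ⥤ D` fully faithful, continuous and cocontinuous, the maps
  `G^* G_* F ⟶ F` and `F ⟶ G^* G_! F` are isomorphisms.
* `full_forget`: `Over.forget U` is full when `U` is subterminal.
-/

set_option autoImplicit false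
universe w w' v₁ v₂ u₁ u₂

open CategoryTheory CategoryTheory.Limits Opposite

namespace K298.FFSite

section

variable {C : Type u₁} [Category.{v₁} C] {D : Type u₂} [Category.{v₂} D]
  (G : C ⥤ D) (A : Type w) [Category.{w'} A] (J : GrothendieckTopology C) (K : GrothendieckTopology D)
  [G.IsContinuous J K] [G.IsCocontinuous J K] [G.Full] [G.Faithful]
  [∀ (F : Cᵒᵖ ⥤ A), G.op.HasPointwiseRightKanExtension F]

lemma isIso_counit_app (F : Sheaf J A) : IsIso ((G.sheafAdjunctionCocontinuous A J K).counit.app F) := by
  have h : IsIso ((sheafToPresheaf J A).map ((G.sheafAdjunctionCocontinuous A J K).counit.app F)) := by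
    have h2 := G.sheafAdjunctionCocontinuous_counit_app_hom A J K F
    have h3 : IsIso ((G.op.ranAdjunction A).counit.app F.obj) := inferInstance
    change IsIso ((G.sheafAdjunctionCocontinuous A J K).counit.app F).hom
    rw [h2]
    exact h3
  exact isIso_of_reflects_iso _ (sheafToPresheaf J A)

lemma isIso_unit_app [(G.sheafPushforwardContinuous A J K).IsRightAdjoint] (F : Sheaf J A) :
    IsIso ((G.sheafAdjunctionContinuous A J K).unit.app F) := by
  let t : Adjunction.Triple (G.sheafPullback A J K) (G.sheafPushforwardContinuous A J K)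
      (G.sheafPushforwardCocontinuous A J K) :=
    ⟨G.sheafAdjunctionContinuous A J K, G.sheafAdjunctionCocontinuous A J K⟩
  have h : IsIso t.adj₂.counit := by
    have : ∀ F, IsIso (t.adj₂.counit.app F) := fun F => isIso_counit_app G A J K F
    exact NatIso.isIso_of_isIso_app _
  have h2 : IsIso t.adj₁.unit := t.isIso_unit_iff_isIso_counit.2 h
  change IsIso (t.adj₁.unit.app F)
  infer_instance

end

lemma full_forget {C : Type u₁} [Category.{v₁} C] (U : C) (hU : ∀ V : C, Subsingleton (V ⟶ U)) :
    (Over.forget U).Full where
  map_surjective f := ⟨Over.homMk f ((hU _).elim _ _), rfl⟩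

end K298.FFSite
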