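import Mathlib.CategoryTheory.Sites.SheafCohomology.Basic
import Mathlib.CategoryTheory.Abelian.GrothendieckCategory.HasExt
import Mathlib.CategoryTheory.Abelian.GrothendieckAxioms.Sheaf
import Mathlib.Algebra.Category.Grp.AB
import Mathlib.Algebra.Homology.DerivedCategory.Ext.ExactSequences
import Groth.Agent.CohSite.K298.ConstSec

/-!
# Maps out of the constant sheaf `ℤ` = compatible families of sections
-/

set_option autoImplicit false
universe u

open CategoryTheory CategoryTheory.Limits Opposite CategoryTheory.Abelian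

namespace K298.GlobSec

variable {C : Type u} [SmallCategory C] (J : GrothendieckTopology C)

/-- the constant sheaf `ℤ` -/
noncomputable abbrev Zc : Sheaf J AddCommGrpCat.{u} :=
  (constantSheaf J AddCommGrpCat.{u}).obj (AddCommGrpCat.of (ULift.{u} ℤ))

/-- the section `1` -/
noncomputable def one (V : C) : (Zc J).obj.obj (op V) :=
  (toSheafify J ((Functor.const Cᵒᵖ).obj (AddCommGrpCat.of (ULift.{u} ℤ)))).app (op V)
    (ULift.up 1 : ULift.{u} ℤ)

lemma map_one {V W : C} (f : V ⟶ W) : (Zc J).obj.map f.op (one J W) = one J V :=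
  (ConcreteCategory.congr_hom ((toSheafify J ((Functor.const Cᵒᵖ).obj
    (AddCommGrpCat.of (ULift.{u} ℤ)))).naturality f.op) (ULift.up 1 : ULift.{u} ℤ)).symm

variable {J} {F : Sheaf J AddCommGrpCat.{u}}

/-- the value at `1` of a map `ℤ ⟶ F` -/
noncomputable def val (s : Zc J ⟶ F) (V : C) : F.obj.obj (op V) := s.hom.app (op V) (one J V)

lemma map_val (s : Zc J ⟶ F) {V W : C} (f : V ⟶ W) : F.obj.map f.op (val s W) = val s V := by
  refine (ConcreteCategory.congr_hom (s.hom.naturality f.op) (one J W)).symm.trans ?_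
  exact congrArg (s.hom.app (op V)) (map_one J f)

lemma val_comp {G : Sheaf J AddCommGrpCat.{u}} (s : Zc J ⟶ F) (t : F ⟶ G) (V : C) :
    val (s ≫ t) V = t.hom.app (op V) (val s V) := rfl

lemma ext_val {s t : Zc J ⟶ F} (h : ∀ V, val s V = val t V) : s = t := by
  apply Sheaf.hom_ext
  apply sheafify_hom_ext J _ _ F.property
  apply NatTrans.ext
  funext V
  apply AddCommGrpCat.ext
  intro x
  let a : (((Functor.const Cᵒᵖ).obj (AddCommGrpCat.of (ULift.{u} ℤ))).obj V) ⟶ F.obj.obj V :=
    (toSheafify J ((Functor.const Cᵒᵖ).obj (AddCommGrpCat.of (ULift.{u} ℤ)))).app V ≫ s.hom.app V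
  let b : (((Functor.const Cᵒᵖ).obj (AddCommGrpCat.of (ULift.{u} ℤ))).obj V) ⟶ F.obj.obj V :=
    (toSheafify J ((Functor.const Cᵒᵖ).obj (AddCommGrpCat.of (ULift.{u} ℤ)))).app V ≫ t.hom.app V
  change a x = b x
  obtain ⟨n⟩ := x
  have h1 : (ULift.up n : ULift.{u} ℤ) = n • (ULift.up 1 : ULift.{u} ℤ) := by
    ext
    simp
  have h2 : a (ULift.up 1 : ULift.{u} ℤ) = b (ULift.up 1 : ULift.{u} ℤ) := h V.unop
  rw [h1]
  refine (map_zsmul a.hom n _).trans ?_
  refine Eq.trans ?_ (map_zsmul b.hom n _).symm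
  exact congrArg (fun t => n • t) h2

/-- a compatible family of sections gives a map `ℤ ⟶ F` -/
theorem exists_of_family (e : ∀ V : C, F.obj.obj (op V))
    (he : ∀ {V W : C} (f : V ⟶ W), F.obj.map f.op (e W) = e V) :
    ∃ s : Zc J ⟶ F, ∀ V, val s V = e V := by
  let t : (Functor.const Cᵒᵖ).obj (AddCommGrpCat.of (ULift.{u} ℤ)) ⟶ F.obj :=
    { app V := AddCommGrpCat.ofHom ((zmultiplesHom _ (e V.unop)).comp AddEquiv.ulift.toAddMonoidHom)
      naturality V W f := by
        apply AddCommGrpCat.ext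
        intro x
        obtain ⟨n⟩ := x
        change n • e W.unop = F.obj.map f (n • e V.unop)
        rw [map_zsmul]
        exact congrArg (fun t => n • t) (he f.unop).symm }
  refine ⟨⟨sheafifyLift J t F.property⟩, fun V => ?_⟩
  have h1 := ConcreteCategory.congr_hom (NatTrans.congr_app (toSheafify_sheafifyLift J t F.property) (op V))
    (ULift.up 1 : ULift.{u} ℤ)
  refine h1.trans ?_
  exact one_zsmul (e V)

variable (J) in
/-- Constant sheaves on a surjection of abelian groups: a section as sheaves of sets. -/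
theorem exists_section {X Y : AddCommGrpCat.{u}} (g : X ⟶ Y) (hg : Function.Surjective g) :
    ∃ σ : (sheafCompose J (forget AddCommGrpCat.{u})).obj ((constantSheaf J AddCommGrpCat.{u}).obj Y) ⟶
      (sheafCompose J (forget AddCommGrpCat.{u})).obj ((constantSheaf J AddCommGrpCat.{u}).obj X),
      σ ≫ (sheafCompose J (forget AddCommGrpCat.{u})).map ((constantSheaf J AddCommGrpCat.{u}).map g) = 𝟙 _ := by
  let e := constantCommuteCompose J (forget AddCommGrpCat.{u})
  let τ : (forget AddCommGrpCat.{u}).obj Y ⟶ (forget AddCommGrpCat.{u}).obj X := ↾ (Function.surjInv hg)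
  have hτ : τ ≫ (forget AddCommGrpCat.{u}).map g = 𝟙 _ := by
    ext x; exact Function.surjInv_eq hg x
  refine ⟨e.hom.app Y ≫ (constantSheaf J (Type u)).map τ ≫ e.inv.app X, ?_⟩
  have h1 := e.inv.naturality g
  change (constantSheaf J (Type u)).map ((forget AddCommGrpCat.{u}).map g) ≫ e.inv.app Y = e.inv.app X ≫
    (sheafCompose J (forget AddCommGrpCat.{u})).map ((constantSheaf J AddCommGrpCat.{u}).map g) at h1
  rw [Category.assoc, Category.assoc, ← h1, ← Functor.map_comp_assoc, hτ,
    CategoryTheory.Functor.map_id, Category.id_comp]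
  exact e.hom_inv_id_app Y

/-- global sections of constant sheaves lift along surjections -/
theorem exists_lift {X Y : AddCommGrpCat.{u}} (g : X ⟶ Y) (hg : Function.Surjective g)
    (s : Zc J ⟶ (constantSheaf J AddCommGrpCat.{u}).obj Y) :
    ∃ t : Zc J ⟶ (constantSheaf J AddCommGrpCat.{u}).obj X, t ≫ (constantSheaf J AddCommGrpCat.{u}).map g = s := by
  obtain ⟨σ, hσ⟩ := exists_section J g hg
  obtain ⟨t, ht⟩ := exists_of_family (F := (constantSheaf J AddCommGrpCat.{u}).obj X)
    (fun V => σ.hom.app (op V) (val s V)) (fun {V W} f => by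
      refine (ConcreteCategory.congr_hom (σ.hom.naturality f.op) (val s W)).symm.trans ?_
      exact congrArg (σ.hom.app (op V)) (map_val s f))
  refine ⟨t, ext_val fun V => ?_⟩
  rw [val_comp, ht]
  have h2 := NatTrans.congr_app (congrArg (fun t => t.hom) hσ) (op V)
  exact ConcreteCategory.congr_hom h2 (val s V)

/-- If global sections of `S.X₃` lift to `S.X₂`, then `H¹(S.X₁) → H¹(S.X₂)` is injective. -/
theorem injective_of_lift {S : ShortComplex (Sheaf J AddCommGrpCat.{u})} (hS : S.ShortExact)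
    (h : ∀ s : Zc J ⟶ S.X₃, ∃ t : Zc J ⟶ S.X₂, t ≫ S.g = s) (x : Ext (Zc J) S.X₁ 1)
    (hx : x.comp (Ext.mk₀ S.f) (add_zero 1) = 0) : x = 0 := by
  obtain ⟨y, hy⟩ := Ext.covariant_sequence_exact₁ _ hS x hx (zero_add 1)
  obtain ⟨s, rfl⟩ := (Ext.mk₀_bijective _ _).2 y
  obtain ⟨t, rfl⟩ := h s
  rw [← hy, ← Ext.mk₀_comp_mk₀, Ext.comp_assoc_of_second_deg_zero, hS.comp_extClass, Ext.comp_zero]

instance preservesFiniteLimits_constantSheaf : PreservesFiniteLimits (constantSheaf J AddCommGrpCat.{u}) :=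
  comp_preservesFiniteLimits _ _

instance preservesFiniteColimits_constantSheaf : PreservesFiniteColimits (constantSheaf J AddCommGrpCat.{u}) :=
  have : PreservesFiniteColimits (Functor.const Cᵒᵖ : AddCommGrpCat.{u} ⥤ _) :=
    ⟨fun S _ _ => inferInstance⟩
  comp_preservesFiniteColimits _ _

end K298.GlobSec
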