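import Groth.Agent.CohSite.K298.GlobSec
import Mathlib.GroupTheory.QuotientGroup.Defs

/-!
# Torsion in `H¹` of a constant torsion-free sheaf with respect to a locally nonzero section of `ℤ`
-/

set_option autoImplicit false
universe u

open CategoryTheory CategoryTheory.Limits Opposite CategoryTheory.Abelian

namespace K298.LocNonzero

open GlobSec

variable {C : Type u} [SmallCategory C] {J : GrothendieckTopology C}

/-- restriction of sections -/
def res (F : Sheaf J AddCommGrpCat.{u}) {V W : C} (g : V ⟶ W) : F.obj.obj (op W) →+ F.obj.obj (op V) :=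
  (F.obj.map g.op).hom

lemma res_comp (F : Sheaf J AddCommGrpCat.{u}) {V W X : C} (g : V ⟶ W) (h : W ⟶ X) (x : F.obj.obj (op X)) :
    res F (g ≫ h) x = res F g (res F h x) :=
  ConcreteCategory.congr_hom (F.obj.map_comp h.op g.op) x

lemma isSheaf (F : Sheaf J AddCommGrpCat.{u}) : Presieve.IsSheaf J (F.obj ⋙ forget AddCommGrpCat.{u}) :=
  (isSheaf_iff_isSheaf_of_type _ _).1 ((sheafCompose J (forget AddCommGrpCat.{u})).obj F).property

lemma sep (F : Sheaf J AddCommGrpCat.{u}) {V : C} (R : Sieve V) (hR : R ∈ J V) {x y : F.obj.obj (op V)}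
    (h : ∀ ⦃W : C⦄ (g : W ⟶ V), R g → res F g x = res F g y) : x = y :=
  ((isSheaf F) R hR).isSeparatedFor.ext h

/-- value of a map of sheaves on sections -/
def ap {F G : Sheaf J AddCommGrpCat.{u}} (f : F ⟶ G) {V : C} : F.obj.obj (op V) →+ G.obj.obj (op V) :=
  (f.hom.app (op V)).hom

lemma ap_res {F G : Sheaf J AddCommGrpCat.{u}} (f : F ⟶ G) {V W : C} (g : V ⟶ W) (x : F.obj.obj (op W)) :
    ap f (res F g x) = res G g (ap f x) :=
  ConcreteCategory.congr_hom (f.hom.naturality g.op) x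

lemma ap_surj {F G : Sheaf J AddCommGrpCat.{u}} (f : F ⟶ G) [Epi f] {V : C} (x : G.obj.obj (op V)) :
    ∃ R ∈ J V, ∀ ⦃W : C⦄ (g : W ⟶ V), R g → ∃ y : F.obj.obj (op W), ap f y = res G g x := by
  have h : Sheaf.IsLocallySurjective f := (Sheaf.isLocallySurjective_iff_epi' AddCommGrpCat.{u} f).2 inferInstance
  exact ⟨_, Presheaf.imageSieve_mem J f.hom x, fun W g hg => hg⟩

lemma ap_inj {F G : Sheaf J AddCommGrpCat.{u}} (f : F ⟶ G) [Mono f] {V : C} :
    Function.Injective (ap f (V := V)) := by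
  have h : Mono ((sheafToPresheaf J AddCommGrpCat.{u} ⋙ (evaluation _ _).obj (op V)).map f) := inferInstance
  exact (AddCommGrpCat.mono_iff_injective _).1 h

lemma ap_exact {S : ShortComplex (Sheaf J AddCommGrpCat.{u})} (hS : S.ShortExact) {V : C}
    (x : S.X₂.obj.obj (op V)) (hx : ap S.g x = 0) : ∃ y, ap S.f y = x := by
  let Γ := sheafToPresheaf J AddCommGrpCat.{u} ⋙ (evaluation _ _).obj (op V)
  have h0 := (Functor.preservesFiniteLimits_tfae Γ).out 0 3
  have h1 := h0.2 inferInstance S hS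
  exact (ShortComplex.ab_exact_iff _).1 h1.1 x hx

/-- constant sections -/
noncomputable def cst (A : Type u) [AddCommGroup A] (V : C) :
    A →+ ((constantSheaf J AddCommGrpCat.{u}).obj (AddCommGrpCat.of A)).obj.obj (op V) :=
  ((toSheafify J ((Functor.const Cᵒᵖ).obj (AddCommGrpCat.of A))).app (op V)).hom

lemma res_cst (A : Type u) [AddCommGroup A] {V W : C} (g : V ⟶ W) (a : A) :
    res _ g (cst (J := J) A W a) = cst A V a :=
  (ConcreteCategory.congr_hom ((toSheafify J ((Functor.const Cᵒᵖ).obj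
    (AddCommGrpCat.of A))).naturality g.op) a).symm

lemma cst_surj (A : Type u) [AddCommGroup A] {V : C}
    (x : ((constantSheaf J AddCommGrpCat.{u}).obj (AddCommGrpCat.of A)).obj.obj (op V)) :
    ∃ R ∈ J V, ∀ ⦃W : C⦄ (g : W ⟶ V), R g → ∃ a : A, cst A W a = res _ g x :=
  ⟨_, Presheaf.imageSieve_mem J (toSheafify J ((Functor.const Cᵒᵖ).obj (AddCommGrpCat.of A))) x,
    fun W g hg => hg⟩

lemma cst_eq_zero (A : Type u) [AddCommGroup A] {V : C} (a : A) (h : cst (J := J) A V a = 0) (ha : a ≠ 0) :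
    (⊥ : Sieve V) ∈ J V := by
  let P := (Functor.const Cᵒᵖ).obj (AddCommGrpCat.of A)
  have h1 := Presheaf.equalizerSieve_mem J (toSheafify J P) (a : P.obj (op V)) (0 : A) (by
    refine Eq.trans h ?_
    exact (map_zero ((toSheafify J P).app (op V)).hom).symm)
  refine J.superset_covering ?_ h1
  intro W g hg
  exact ha hg

lemma eq_of_bot (F : Sheaf J AddCommGrpCat.{u}) {V : C} (h : (⊥ : Sieve V) ∈ J V) (x y : F.obj.obj (op V)) :
    x = y :=
  sep F ⊥ h (fun _ _ h => h.elim)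

section Rep

variable (A : Type u) [AddCommGroup A]

/-- chosen representatives modulo `n` -/
noncomputable def rep (n : ℤ) (a : A) : A :=
  Quotient.out (QuotientAddGroup.mk a : A ⧸ (zsmulAddGroupHom (α := A) n).range)

lemma mk_rep (n : ℤ) (a : A) :
    (QuotientAddGroup.mk (rep A n a) : A ⧸ (zsmulAddGroupHom (α := A) n).range) = QuotientAddGroup.mk a :=
  Quotient.out_eq _

lemma exists_rep (n : ℤ) (a : A) : ∃ b : A, rep A n a = a - n • b := by
  have h := (QuotientAddGroup.eq (s := (zsmulAddGroupHom (α := A) n).range)).1 (mk_rep A n a)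
  obtain ⟨b, hb⟩ := h
  refine ⟨b, ?_⟩
  have h2 : n • b = - rep A n a + a := hb
  rw [h2]
  abel

lemma rep_eq (n : ℤ) {a b : A} (c : A) (h : a - b = n • c) : rep A n a = rep A n b := by
  have : (QuotientAddGroup.mk a : A ⧸ (zsmulAddGroupHom (α := A) n).range) = QuotientAddGroup.mk b := by
    rw [QuotientAddGroup.eq]
    refine ⟨-c, ?_⟩
    change n • (-c) = _
    rw [smul_neg, ← h]
    abel
  unfold rep
  rw [this]

lemma rep_rep (n : ℤ) (a : A) : rep A n (rep A n a) = rep A n a := by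
  obtain ⟨b, hb⟩ := exists_rep A n a
  refine (rep_eq A n (-b) ?_)
  rw [hb, smul_neg]
  abel

end Rep

section Main

variable {A : Type u} [AddCommGroup A] (hA : ∀ (m : ℤ) (a : A), m ≠ 0 → m • a = 0 → a = 0)
  {S : ShortComplex (Sheaf J AddCommGrpCat.{u})} (hS : S.ShortExact)
  (e₁ : (constantSheaf J AddCommGrpCat.{u}).obj (AddCommGrpCat.of A) ≅ S.X₁)
  {φ : Zc J ⟶ Zc J} {ι : Type u} {U : ι → C} {n : ι → ℤ} (hn : ∀ i, n i ≠ 0)
  (hφ : ∀ (i : ι) (V : C) (_ : V ⟶ U i), φ.hom.app (op V) = n i • 𝟙 _)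
  (hcov : ∀ V : C, ∃ R ∈ J V, ∀ ⦃W : C⦄ (g : W ⟶ V), R g → ∃ i, Nonempty (W ⟶ U i))
  (q : Zc J ⟶ S.X₃) (ψ : Zc J ⟶ S.X₂) (hψ : ψ ≫ S.g = φ ≫ q)

/-- the inclusion of the constant sheaf -/
noncomputable def inc {V : C} :
    ((constantSheaf J AddCommGrpCat.{u}).obj (AddCommGrpCat.of A)).obj.obj (op V) →+ S.X₂.obj.obj (op V) :=
  ap (e₁.hom ≫ S.f)

include hS in
lemma inc_inj {V : C} : Function.Injective (inc e₁ (V := V)) := by
  have := hS.mono_f
  exact ap_inj (e₁.hom ≫ S.f)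

lemma res_inc {V W : C} (g : V ⟶ W)
    (x : ((constantSheaf J AddCommGrpCat.{u}).obj (AddCommGrpCat.of A)).obj.obj (op W)) :
    res _ g (inc e₁ x) = inc e₁ (res _ g x) := (ap_res _ g x).symm

lemma ap_inc {V : C} (x : ((constantSheaf J AddCommGrpCat.{u}).obj (AddCommGrpCat.of A)).obj.obj (op V)) :
    ap S.g (inc e₁ x) = 0 := by
  have h : (e₁.hom ≫ S.f) ≫ S.g = 0 := by rw [Category.assoc, S.zero, comp_zero]
  exact ConcreteCategory.congr_hom (NatTrans.congr_app (congrArg (fun t => t.hom) h) (op V)) x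

include hS in
lemma exists_inc {V : C} (x : S.X₂.obj.obj (op V)) (hx : ap S.g x = 0) : ∃ y, inc e₁ y = x := by
  obtain ⟨y, hy⟩ := ap_exact hS x hx
  refine ⟨ap e₁.inv y, ?_⟩
  rw [← hy]
  have h : e₁.inv ≫ e₁.hom ≫ S.f = S.f := by simp
  exact ConcreteCategory.congr_hom (NatTrans.congr_app (congrArg (fun t => t.hom) h) (op V)) y

variable (U n) in
/-- the distinguished lifts -/
def Good (V : C) (e : S.X₂.obj.obj (op V)) : Prop :=
  ap S.g e = val q V ∧ ∀ (W : C) (g : W ⟶ V) (i : ι) (_ : W ⟶ U i),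
    ∃ R ∈ J W, ∀ ⦃W' : C⦄ (h : W' ⟶ W), R h → ∃ a : A, inc e₁ (cst A W' (rep A (n i) a)) =
      res _ h (val ψ W - n i • res _ g e)

lemma Good.res {V W : C} (g : W ⟶ V) {e : S.X₂.obj.obj (op V)} (h : Good e₁ U n q ψ V e) :
    Good e₁ U n q ψ W (res _ g e) := by
  refine ⟨?_, ?_⟩
  · rw [ap_res, h.1]
    exact map_val q g
  · intro W' g' i hi
    obtain ⟨R, hR, H⟩ := h.2 W' (g' ≫ g) i hi
    refine ⟨R, hR, ?_⟩
    rw [← res_comp]
    exact H

include hA hS hn hcov in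
lemma Good.unique {V : C} {e e' : S.X₂.obj.obj (op V)} (h : Good e₁ U n q ψ V e)
    (h' : Good e₁ U n q ψ V e') : e = e' := by
  obtain ⟨R, hR, H⟩ := hcov V
  refine sep _ R hR fun W g hg => ?_
  obtain ⟨i, ⟨u⟩⟩ := H g hg
  obtain ⟨R₁, hR₁, H₁⟩ := h.2 W g i u
  obtain ⟨R₂, hR₂, H₂⟩ := h'.2 W g i u
  refine sep _ _ (J.intersection_covering hR₁ hR₂) fun W' k hk => ?_
  obtain ⟨a, ha⟩ := H₁ k hk.1
  obtain ⟨a', ha'⟩ := H₂ k hk.2
  rw [map_sub, map_zsmul, ← res_comp] at ha ha'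
  rw [← res_comp, ← res_comp]
  set x := K298.LocNonzero.res _ (k ≫ g) e with hx
  set x' := K298.LocNonzero.res _ (k ≫ g) e' with hx'
  obtain ⟨b, hb⟩ := exists_inc hS e₁ (x' - x) (by
    rw [map_sub, hx, hx', ap_res, ap_res, h.1, h'.1, sub_self])
  obtain ⟨R₃, hR₃, H₃⟩ := cst_surj A b
  have hb0 : b = 0 := by
    refine sep _ R₃ hR₃ fun W'' l hl => ?_
    obtain ⟨β, hβ⟩ := H₃ l hl
    rw [map_zero, ← hβ]
    have h1 : inc e₁ (cst A W' (rep A (n i) a) - cst A W' (rep A (n i) a')) = inc e₁ (n i • b) := by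
      rw [map_sub, ha, ha', map_zsmul, hb]
      rw [smul_sub]
      abel
    have h2 := congrArg (K298.LocNonzero.res _ l) (inc_inj hS e₁ h1)
    rw [map_sub, map_zsmul, res_cst, res_cst, ← hβ, ← map_sub, ← map_zsmul, ← sub_eq_zero, ← map_sub] at h2
    by_cases h3 : rep A (n i) a - rep A (n i) a' - n i • β = 0
    · rw [sub_eq_zero] at h3
      have h4 : rep A (n i) a = rep A (n i) a' := by
        rw [← rep_rep A (n i) a, ← rep_rep A (n i) a']
        exact rep_eq A (n i) β h3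
      rw [h4, sub_self] at h3
      rw [hA (n i) β (hn i) h3.symm, map_zero]
    · exact eq_of_bot _ (cst_eq_zero A _ h2 h3) _ _
  rw [hb0, map_zero] at hb
  exact (sub_eq_zero.1 hb.symm).symm

include hφ in
lemma bot_of_ne {V : C} {i j : ι} (u : V ⟶ U i) (u' : V ⟶ U j) (h : n i ≠ n j) : (⊥ : Sieve V) ∈ J V := by
  have h1 : (n i • 𝟙 ((Zc J).obj.obj (op V))) (one J V) = (n j • 𝟙 ((Zc J).obj.obj (op V))) (one J V) := by
    rw [← hφ i V u, ← hφ j V u']
  have h2 : n i • one J V = n j • one J V := h1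
  have h3 : cst (J := J) (ULift.{u} ℤ) V (ULift.up (n i - n j)) = 0 := by
    have h4 : (ULift.up (n i - n j) : ULift.{u} ℤ) = (n i - n j) • (ULift.up 1 : ULift.{u} ℤ) := by
      ext; simp
    rw [h4, map_zsmul, sub_smul]
    exact sub_eq_zero.2 h2
  refine cst_eq_zero _ _ h3 ?_
  intro h5
  exact h (sub_eq_zero.1 (congrArg ULift.down h5))

include hφ hψ in
lemma ap_val {V : C} {i : ι} (u : V ⟶ U i) : ap S.g (val ψ V) = n i • val q V := by
  have h1 : val (ψ ≫ S.g) V = val (φ ≫ q) V := by rw [hψ]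
  refine h1.trans ?_
  change ap q (φ.hom.app (op V) (one J V)) = _
  rw [hφ i V u]
  exact map_zsmul (ap q) (n i) (one J V)

include hφ in
lemma exists_good_aux {V : C} {i : ι} (u : V ⟶ U i) (e₀ : S.X₂.obj.obj (op V)) (h : ap S.g e₀ = val q V)
    (α : A) (hα : inc e₁ (cst A V α) = val ψ V - n i • e₀) : ∃ e, Good e₁ U n q ψ V e := by
  obtain ⟨β, hβ⟩ := exists_rep A (n i) α
  refine ⟨e₀ + inc e₁ (cst A V β), ?_, ?_⟩
  · rw [map_add, h, ap_inc, add_zero]
  · intro W g j u'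
    by_cases hij : n i = n j
    · refine ⟨⊤, J.top_mem _, fun W' k _ => ⟨α, ?_⟩⟩
      rw [← hij, hβ, map_sub, map_sub, map_add, map_zsmul (cst A W'), map_zsmul (inc e₁ (V := W')),
        smul_add, map_sub, map_add, map_zsmul, map_zsmul]
      have h1 := congrArg (K298.LocNonzero.res S.X₂ (k ≫ g)) hα
      rw [res_inc, res_cst, map_sub, map_zsmul] at h1
      have h3 : K298.LocNonzero.res S.X₂ (k ≫ g) (val ψ V) = val ψ W' := map_val ψ (k ≫ g)
      rw [h3] at h1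
      rw [res_inc, res_cst, res_inc, res_cst, h1, ← res_comp]
      have h2 : K298.LocNonzero.res S.X₂ k (val ψ W) = val ψ W' := map_val ψ k
      rw [h2]
      abel
    · exact ⟨⊥, bot_of_ne hφ (g ≫ u) u' hij, fun _ _ h => h.elim⟩

include hφ hψ hcov hS in
lemma exists_good (V : C) : ∃ R ∈ J V, ∀ ⦃W : C⦄ (g : W ⟶ V), R g → ∃ e, Good e₁ U n q ψ W e := by
  have := hS.epi_g
  let R : Sieve V :=
    { arrows := fun W g => ∃ e, Good e₁ U n q ψ W e
      downward_closed := fun {W W'} g ⟨e, he⟩ h => ⟨_, he.res e₁ q ψ h⟩ }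
  refine ⟨R, ?_, fun W g hg => hg⟩
  obtain ⟨R₀, hR₀, H₀⟩ := hcov V
  refine J.transitive hR₀ _ fun W₀ g₀ hg₀ => ?_
  obtain ⟨i, ⟨u⟩⟩ := H₀ g₀ hg₀
  obtain ⟨R₁, hR₁, H₁⟩ := ap_surj S.g (val q W₀)
  refine J.transitive hR₁ _ fun W₁ g₁ hg₁ => ?_
  obtain ⟨e₀, he₀⟩ := H₁ g₁ hg₁
  have he₀' : ap S.g e₀ = val q W₁ := he₀.trans (map_val q g₁)
  obtain ⟨a, ha⟩ := exists_inc hS e₁ (val ψ W₁ - n i • e₀) (by
    rw [map_sub, map_zsmul, ap_val hφ q ψ hψ (g₁ ≫ u), he₀', sub_self])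
  obtain ⟨R₂, hR₂, H₂⟩ := cst_surj A a
  refine J.superset_covering ?_ hR₂
  intro W₂ g₂ hg₂
  obtain ⟨α, hα⟩ := H₂ g₂ hg₂
  refine exists_good_aux e₁ hφ q ψ (g₂ ≫ g₁ ≫ u) (K298.LocNonzero.res _ g₂ e₀) ?_ α ?_
  · rw [ap_res, he₀']
    exact map_val q g₂
  · rw [hα, ← res_inc, ha, map_sub, map_zsmul]
    congr 1
    exact map_val ψ g₂

include e₁ hA hφ hψ hcov hS hn in
theorem exists_lift : ∃ e : Zc J ⟶ S.X₂, e ≫ S.g = q := by
  have key : ∀ V : C, ∃ e, Good e₁ U n q ψ V e := by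
    intro V
    obtain ⟨R, hR, H⟩ := exists_good hS e₁ hφ hcov q ψ hψ V
    choose x hx using H
    let fam : Presieve.FamilyOfElements (S.X₂.obj ⋙ forget AddCommGrpCat.{u}) R.arrows := fun W g hg => x g hg
    have hfam : fam.Compatible := by
      intro Y₁ Y₂ Z g₁ g₂ f₁ f₂ h₁ h₂ hc
      exact Good.unique hA hS e₁ hn hcov q ψ ((hx f₁ h₁).res e₁ q ψ g₁) ((hx f₂ h₂).res e₁ q ψ g₂)
    let e : S.X₂.obj.obj (op V) := ((isSheaf S.X₂) R hR).amalgamate fam hfam
    have he (W : C) (g : W ⟶ V) (hg : R g) : K298.LocNonzero.res _ g e = x g hg :=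
      ((isSheaf S.X₂) R hR).valid_glue hfam g hg
    refine ⟨e, ?_, ?_⟩
    · refine sep _ R hR fun W g hg => ?_
      rw [← ap_res, he W g hg, (hx g hg).1]
      exact (map_val q g).symm
    · intro W g i u
      let T : Sieve W :=
        { arrows := fun W' h => ∃ a : A, inc e₁ (cst A W' (rep A (n i) a)) =
            K298.LocNonzero.res _ h (val ψ W - n i • K298.LocNonzero.res _ g e)
          downward_closed := by
            rintro W' W'' h ⟨a, ha⟩ k
            refine ⟨a, ?_⟩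
            rw [res_comp, ← ha, res_inc, res_cst] }
      refine ⟨T, ?_, fun W' h hh => hh⟩
      refine J.transitive (J.pullback_stable g hR) _ fun W' h hh => ?_
      obtain ⟨R', hR', H'⟩ := (hx (h ≫ g) hh).2 W' (𝟙 _) i (h ≫ u)
      refine J.superset_covering ?_ hR'
      intro W'' k hk
      obtain ⟨a, ha⟩ := H' k hk
      refine ⟨a, ?_⟩
      rw [ha, res_comp _ k h, map_sub, map_sub (K298.LocNonzero.res S.X₂ h), map_sub (K298.LocNonzero.res S.X₂ k)]
      congr 1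
      · exact (congrArg (K298.LocNonzero.res S.X₂ k) (map_val ψ h)).symm
      · rw [map_zsmul, map_zsmul, map_zsmul, ← he _ _ hh, ← res_comp, ← res_comp, ← res_comp, ← res_comp]
        simp
  choose e he using key
  obtain ⟨t, ht⟩ := exists_of_family e (fun {V W} f =>
    Good.unique hA hS e₁ hn hcov q ψ ((he W).res e₁ q ψ f) (he V))
  refine ⟨t, ext_val fun V => ?_⟩
  rw [val_comp, ht]
  exact (he V).1

end Main

theorem eq_zero {A : Type u} [AddCommGroup A] (hA : ∀ (m : ℤ) (a : A), m ≠ 0 → m • a = 0 → a = 0)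
    (φ : Zc J ⟶ Zc J) {ι : Type u} (U : ι → C) (n : ι → ℤ) (hn : ∀ i, n i ≠ 0)
    (hφ : ∀ (i : ι) (V : C) (_ : V ⟶ U i), φ.hom.app (op V) = n i • 𝟙 _)
    (hcov : ∀ V : C, ∃ R ∈ J V, ∀ ⦃W : C⦄ (g : W ⟶ V), R g → ∃ i, Nonempty (W ⟶ U i))
    (x : Ext (Zc J) ((constantSheaf J AddCommGrpCat.{u}).obj (AddCommGrpCat.of A)) 1)
    (hx : (Ext.mk₀ φ).comp x (zero_add 1) = 0) : x = 0 := by
  let F := (constantSheaf J AddCommGrpCat.{u}).obj (AddCommGrpCat.of A)
  let S : ShortComplex (Sheaf J AddCommGrpCat.{u}) :=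
    ShortComplex.mk (Injective.ι F) (cokernel.π (Injective.ι F)) (cokernel.condition _)
  have hS : S.ShortExact :=
    { exact := ShortComplex.exact_cokernel _
      mono_f := inferInstanceAs (Mono (Injective.ι F))
      epi_g := inferInstanceAs (Epi (cokernel.π (Injective.ι F))) }
  obtain ⟨y, hy⟩ := Ext.covariant_sequence_exact₁ _ hS x
    (Ext.eq_zero_of_injective (I := Injective.under F) _) (zero_add 1)
  obtain ⟨q, rfl⟩ := (Ext.mk₀_bijective _ _).2 y
  rw [← hy, ← Ext.comp_assoc_of_second_deg_zero, Ext.mk₀_comp_mk₀] at hx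
  obtain ⟨z, hz⟩ := Ext.covariant_sequence_exact₃ _ hS _ (zero_add 1) hx
  obtain ⟨ψ, rfl⟩ := (Ext.mk₀_bijective _ _).2 z
  rw [Ext.mk₀_comp_mk₀] at hz
  have hψ : ψ ≫ S.g = φ ≫ q := (Ext.mk₀_bijective _ _).1 hz
  obtain ⟨e, rfl⟩ := exists_lift hA hS (Iso.refl _) hn hφ hcov q ψ hψ
  rw [← hy, ← Ext.mk₀_comp_mk₀, Ext.comp_assoc_of_second_deg_zero, hS.comp_extClass, Ext.comp_zero]

end K298.LocNonzero
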