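import Groth.Agent.CohSite.K297.LeraySS
import Groth.Agent.CohtopB.SheafShift
import Groth.Agent.CohtopB.NerveHK
import Groth.Agent.CohtopA.Shifts
import Mathlib.CategoryTheory.Adjunction.Mates

/-!
# The spectral sequence from presheaf cohomology to sheaf cohomology
-/

set_option autoImplicit false
universe v u

open CategoryTheory CategoryTheory.Limits CategoryTheory.Abelian Opposite
open Groth.Agent.CohtopB.NerveHK K297.RDHom

namespace K298.PshSS

noncomputable section

variable {C : Type u} [SmallCategory C] (J : GrothendieckTopology C)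

/-- abelian presheaves as sheaves for the trivial topology -/
abbrev B : (Cᵒᵖ ⥤ AddCommGrpCat.{u}) ⥤ Sheaf (⊥ : GrothendieckTopology C) AddCommGrpCat.{u} :=
  (sheafBotEquivalence AddCommGrpCat.{u}).inverse

/-- the inclusion of sheaves in presheaves -/
abbrev T : Sheaf J AddCommGrpCat.{u} ⥤ Sheaf (⊥ : GrothendieckTopology C) AddCommGrpCat.{u} :=
  sheafToPresheaf J AddCommGrpCat.{u} ⋙ B

/-- its left adjoint -/
abbrev L : Sheaf (⊥ : GrothendieckTopology C) AddCommGrpCat.{u} ⥤ Sheaf J AddCommGrpCat.{u} :=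
  sheafToPresheaf ⊥ AddCommGrpCat.{u} ⋙ presheafToSheaf J AddCommGrpCat.{u}

/-- the adjunction -/
def adj : L J ⊣ T J :=
  (sheafBotEquivalence AddCommGrpCat.{u}).toAdjunction.comp
    (sheafificationAdjunction J AddCommGrpCat.{u})

instance : (B (C := C)).Additive where

instance : (T J).Additive where

instance : (L J).Additive := (adj J).left_adjoint_additive

instance : (B (C := C)).IsEquivalence :=
  (sheafBotEquivalence AddCommGrpCat.{u}).isEquivalence_inverse

instance : PreservesFiniteLimits (T J) := by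
  have : PreservesLimitsOfSize.{0, 0} (T J) := (adj J).rightAdjoint_preservesLimits
  exact PreservesLimitsOfSize.preservesFiniteLimits _

instance : (L J).PreservesMonomorphisms where
  preserves f _ := inferInstanceAs (Mono ((presheafToSheaf J AddCommGrpCat.{u}).map
    ((sheafToPresheaf ⊥ AddCommGrpCat.{u}).map f)))

/-- two descriptions of the free abelian sheaf on a presheaf of sets -/
def freeIso (R : Cᵒᵖ ⥤ Type u) :
    (L J).obj ((presheafToSheaf (⊥ : GrothendieckTopology C) AddCommGrpCat.{u}).obj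
      (R ⋙ AddCommGrpCat.free.{u})) ≅
      (presheafToSheaf J AddCommGrpCat.{u}).obj
        (((presheafToSheaf J (Type u)).obj R).obj ⋙ AddCommGrpCat.free.{u}) :=
  ((conjugateIsoEquiv
    ((sheafificationAdjunction J (Type u)).comp (zAdj J))
    (((AddCommGrpCat.adj.{u}.whiskerRight Cᵒᵖ).comp
      (sheafificationAdjunction (⊥ : GrothendieckTopology C) AddCommGrpCat.{u})).comp (adj J))).symm
    (NatIso.ofComponents (fun F => Iso.refl _))).app R

/-- `Hom(L Z, -) ≅ Hom(Z, T -)`. -/
def homFComp (Z : Sheaf (⊥ : GrothendieckTopology C) AddCommGrpCat.{u}) :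
    T J ⋙ homF Z ≅ homF ((L J).obj Z) :=
  NatIso.ofComponents (fun F => ((adj J).homAddEquiv Z F).symm.toAddCommGrpIso) (fun {F G} φ => by
    ext x
    exact (adj J).homEquiv_naturality_right_symm x φ)

/-- isomorphic objects have isomorphic `Hom` functors -/
def homFCongr {A : Type*} [Category.{u} A] [Preadditive A] {Z Z' : A} (e : Z ≅ Z') :
    (preadditiveCoyoneda.obj (op Z) : A ⥤ AddCommGrpCat.{u}) ≅ preadditiveCoyoneda.obj (op Z') :=
  preadditiveCoyoneda.mapIso e.symm.op

lemma rdT (q : ℕ) (M : Sheaf J AddCommGrpCat.{u}) :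
    Nonempty (((T J).rightDerived q).obj M ≅ (B (C := C)).obj (M.cohomologyPresheaf q)) := by
  have h1 := (Groth.Agent.CohtopB.SheafShift.isShift_presheaf J).comp (B (C := C))
  have h2 := Groth.Agent.CohtopA.Shifts.shifts_rightDerived (T J)
  have h3 : Groth.Agent.CohtopB.EffComp.IsShift (T J) (fun n F => ((T J).rightDerived n).obj F) :=
    { zero := h2.zero
      one := h2.one
      succ := fun n S hS hI => h2.succ S hS hI n }
  exact h3.comparison h1 (Iso.refl _) q M

theorem main (R : Cᵒᵖ ⥤ Type u) (M : Sheaf J AddCommGrpCat.{u}) :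
    ∃ (E : E₂CohomologicalSpectralSequence AddCommGrpCat.{u})
      (a : SpSeq.Abutment E (fun n : ℤ =>
        if 0 ≤ n then AddCommGrpCat.of (CohCx.HK ((presheafToSheaf J (Type u)).obj R) M n.toNat)
        else AddCommGrpCat.of PUnit.{u + 1})),
      (∀ n, a.IsFinite n) ∧ SpSeq.IsBounded E ∧
      ∀ p q : ℤ, Nonempty ((E.page 2 le_rfl).X (p, q) ≅
        (if 0 ≤ p ∧ 0 ≤ q then
          AddCommGrpCat.of (CohCx.HK (J := (⊥ : GrothendieckTopology C)) ⟨R, Presheaf.isSheaf_bot _⟩
            ⟨M.cohomologyPresheaf q.toNat, Presheaf.isSheaf_bot _⟩ p.toNat)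
         else AddCommGrpCat.of PUnit.{u + 1})) := by
  let Z : Sheaf (⊥ : GrothendieckTopology C) AddCommGrpCat.{u} :=
    (presheafToSheaf (⊥ : GrothendieckTopology C) AddCommGrpCat.{u}).obj
      (R ⋙ AddCommGrpCat.free.{u})
  refine K297.LeraySS.exists_ss (T J) (homF Z) (fun Q hQ q hq => ?_) M
    (fun n => AddCommGrpCat.of (CohCx.HK ((presheafToSheaf J (Type u)).obj R) M n)) (fun n => ?_)
    (fun p q => AddCommGrpCat.of (CohCx.HK (J := (⊥ : GrothendieckTopology C))
      ⟨R, Presheaf.isSheaf_bot _⟩ ⟨M.cohomologyPresheaf q, Presheaf.isSheaf_bot _⟩ p)) (fun p q => ?_)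
    _ _ K297.LeraySS.isZero_punit K297.LeraySS.isZero_punit
  · have : Injective ((T J).obj Q) := (adj J).map_injective Q hQ
    obtain ⟨q, rfl⟩ : ∃ q', q = q' + 1 := ⟨q - 1, by omega⟩
    exact (homF Z).isZero_rightDerived_obj_injective_succ q _
  · exact ⟨(Groth.Agent.CohtopA.RDComp.rightDerivedCongr
      (homFComp J Z ≪≫ homFCongr (freeIso J R)) n).app M ≪≫ rdHomIso _ M n⟩
  · obtain ⟨e⟩ := rdT J q M
    exact ⟨((homF Z).rightDerived p).mapIso e ≪≫ rdHomIso Z _ p⟩

end

end K298.PshSS
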