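import Mathlib.CategoryTheory.Limits.Types.Filtered
import Mathlib.Data.Fintype.Prod
import Mathlib.Data.Set.Finite.Basic
import Mathlib.Data.Set.Finite.Range
import Mathlib.Data.Finite.Prod
import Mathlib.CategoryTheory.Filtered.Basic
import Mathlib.CategoryTheory.Sites.Sheaf
import Mathlib.CategoryTheory.Limits.FullSubcategory
import Mathlib.CategoryTheory.Limits.FunctorCategory.Basic
import Mathlib.CategoryTheory.Limits.Shapes.Pullback.HasPullback

/-!
# Filtered colimits of sheaves of sets on a site where every object is quasi-compact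
-/

set_option autoImplicit false
universe w v u u' v'

open CategoryTheory CategoryTheory.Limits Opposite

namespace K298.QCFilt

section Filt

variable {I : Type v'} [Category.{u'} I] [IsFiltered I] {κ : Type*} [Finite κ]

/-- finitely many elements of a filtered colimit come from a common stage -/
lemma exists_rep {F : κ → I ⥤ Type w} {c : ∀ k, Cocone (F k)} (hc : ∀ k, IsColimit (c k))
    (x : ∀ k, (c k).pt) : ∃ (i : I) (y : ∀ k, (F k).obj i), ∀ k, (c k).ι.app i (y k) = x k := by
  choose i y hy using fun k => Types.jointly_surjective (F k) (hc k) (x k)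
  obtain ⟨j, hj⟩ := IsFiltered.sup_objs_exists ((Set.finite_range i).toFinset)
  have hj' : ∀ k, Nonempty (i k ⟶ j) := fun k => hj (by simp)
  refine ⟨j, fun k => (F k).map (hj' k).some (y k), fun k => ?_⟩
  rw [← hy k]
  exact ConcreteCategory.congr_hom ((c k).w (hj' k).some) (y k)

/-- finitely many equalities in a filtered colimit hold at a common stage -/
lemma exists_eq {F : κ → I ⥤ Type w} {c : ∀ k, Cocone (F k)} (hc : ∀ k, IsColimit (c k))
    (i : I) (x y : ∀ k, (F k).obj i) (h : ∀ k, (c k).ι.app i (x k) = (c k).ι.app i (y k)) :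
    ∃ (j : I) (f : i ⟶ j), ∀ k, (F k).map f (x k) = (F k).map f (y k) := by
  classical
  have := Fintype.ofFinite κ
  suffices ∀ s : Finset κ, ∃ (j : I) (f : i ⟶ j), ∀ k ∈ s, (F k).map f (x k) = (F k).map f (y k) by
    obtain ⟨j, f, hf⟩ := this Finset.univ
    exact ⟨j, f, fun k => hf k (Finset.mem_univ k)⟩
  intro s
  induction s using Finset.induction_on with
  | empty => exact ⟨i, 𝟙 i, by simp⟩
  | insert a s ha ih =>
    obtain ⟨j, f, hf⟩ := ih
    obtain ⟨j', f', hf'⟩ := (Types.FilteredColimit.isColimit_eq_iff' (hc a) _ _).1 (h a)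
    obtain ⟨l, g, g', hg⟩ := IsFiltered.span f f'
    refine ⟨l, f ≫ g, ?_⟩
    intro k hk
    rcases Finset.mem_insert.1 hk with rfl | hk
    · rw [hg, Functor.map_comp]
      exact congrArg ((F k).map g') hf'
    · rw [Functor.map_comp]
      exact congrArg ((F k).map g) (hf k hk)

end Filt

variable {C : Type u} [Category.{v} C] (J : GrothendieckTopology C) [HasPullbacks C]
  {I : Type v'} [Category.{u'} I] [IsFiltered I]

/-- The sheaf condition for finite covering families passes to filtered colimits. -/
lemma isSheafFor_ofArrows (F : I ⥤ Cᵒᵖ ⥤ Type w) (c : Cocone F)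
    (hc : ∀ X : Cᵒᵖ, IsColimit (((evaluation _ _).obj X).mapCocone c))
    {n : ℕ} {X : C} (V : Fin n → C) (g : ∀ k, V k ⟶ X)
    (hF : ∀ i, (Presieve.ofArrows V g).IsSheafFor (F.obj i)) :
    (Presieve.ofArrows V g).IsSheafFor c.pt := by
  have hF' := fun i => (Presieve.isSheafFor_arrows_iff_pullbacks _ _).1 (hF i)
  rw [Presieve.isSheafFor_arrows_iff_pullbacks]
  intro x hx
  -- separatedness
  have hsep (a b : c.pt.obj (op X)) (hab : ∀ k, c.pt.map (g k).op a = c.pt.map (g k).op b) : a = b := by
    obtain ⟨i, y, hy⟩ := exists_rep (κ := Fin 2) (fun _ => hc (op X)) ![a, b]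
    obtain ⟨j, f, hf⟩ := exists_eq (κ := Fin n) (fun k => hc (op (V k))) i
      (fun k => (F.obj i).map (g k).op (y 0)) (fun k => (F.obj i).map (g k).op (y 1)) (by
        intro k
        refine (ConcreteCategory.congr_hom ((c.ι.app i).naturality (g k).op) (y 0)).trans ?_
        refine Eq.trans ?_ (ConcreteCategory.congr_hom ((c.ι.app i).naturality (g k).op) (y 1)).symm
        refine (congrArg (c.pt.map (g k).op) (hy 0)).trans ?_
        refine Eq.trans ?_ (congrArg (c.pt.map (g k).op) (hy 1)).symm
        exact hab k)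
    have h1 : (F.map f).app (op X) (y 0) = (F.map f).app (op X) (y 1) := by
      obtain ⟨t, _, ht⟩ := hF' j (fun k => (F.obj j).map (g k).op ((F.map f).app (op X) (y 0))) (by
        rw [← Presieve.Arrows.pullbackCompatible_iff]
        intro a b Z ga gb hgab
        refine (ConcreteCategory.congr_hom ((F.obj j).map_comp (g a).op ga.op) _).symm.trans ?_
        refine Eq.trans ?_ (ConcreteCategory.congr_hom ((F.obj j).map_comp (g b).op gb.op) _)
        rw [← op_comp, ← op_comp, hgab])
      refine (ht _ (fun k => rfl)).trans (ht _ (fun k => ?_)).symm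
      refine (ConcreteCategory.congr_hom ((F.map f).naturality (g k).op) (y 1)).symm.trans ?_
      refine Eq.trans ?_ (ConcreteCategory.congr_hom ((F.map f).naturality (g k).op) (y 0))
      exact (hf k).symm
    have h2 : ∀ z, (c.ι.app j).app (op X) ((F.map f).app (op X) z) = (c.ι.app i).app (op X) z := fun z =>
      ConcreteCategory.congr_hom (NatTrans.congr_app (c.w f) (op X)) z
    refine (hy 0).symm.trans (Eq.trans ?_ (hy 1))
    refine (h2 (y 0)).symm.trans (Eq.trans ?_ (h2 (y 1)))
    exact congrArg _ h1
  -- existence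
  obtain ⟨i, y, hy⟩ := exists_rep (κ := Fin n) (fun k => hc (op (V k))) x
  obtain ⟨j, f, hf⟩ := exists_eq (κ := Fin n × Fin n) (fun p => hc (op (pullback (g p.1) (g p.2)))) i
      (fun p => (F.obj i).map (pullback.fst (g p.1) (g p.2)).op (y p.1))
      (fun p => (F.obj i).map (pullback.snd (g p.1) (g p.2)).op (y p.2)) (by
        rintro ⟨a, b⟩
        refine (ConcreteCategory.congr_hom ((c.ι.app i).naturality (pullback.fst (g a) (g b)).op) (y a)).trans ?_
        refine Eq.trans ?_
          (ConcreteCategory.congr_hom ((c.ι.app i).naturality (pullback.snd (g a) (g b)).op) (y b)).symm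
        refine (congrArg (c.pt.map (pullback.fst (g a) (g b)).op) (hy a)).trans ?_
        refine Eq.trans ?_ (congrArg (c.pt.map (pullback.snd (g a) (g b)).op) (hy b)).symm
        exact hx a b)
  obtain ⟨t, ht, _⟩ := hF' j (fun k => (F.map f).app (op (V k)) (y k)) (by
    intro a b
    refine (ConcreteCategory.congr_hom ((F.map f).naturality (pullback.fst (g a) (g b)).op) (y a)).symm.trans ?_
    refine Eq.trans ?_ (ConcreteCategory.congr_hom ((F.map f).naturality (pullback.snd (g a) (g b)).op) (y b))
    exact hf (a, b))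
  refine ⟨(c.ι.app j).app (op X) t, fun k => ?_, ?_⟩
  · refine (ConcreteCategory.congr_hom ((c.ι.app j).naturality (g k).op) t).symm.trans ?_
    refine (congrArg ((c.ι.app j).app (op (V k))) (ht k)).trans ?_
    refine (ConcreteCategory.congr_hom (NatTrans.congr_app (c.w f) (op (V k))) (y k)).trans ?_
    exact hy k
  · intro s hs
    apply hsep
    intro k
    rw [hs k]
    symm
    refine (ConcreteCategory.congr_hom ((c.ι.app j).naturality (g k).op) t).symm.trans ?_
    refine (congrArg ((c.ι.app j).app (op (V k))) (ht k)).trans ?_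
    refine (ConcreteCategory.congr_hom (NatTrans.congr_app (c.w f) (op (V k))) (y k)).trans ?_
    exact hy k

/-- Every covering sieve contains a finite family generating a covering sieve. -/
def QC : Prop := ∀ (X : C), ∀ S ∈ J X, ∃ (n : ℕ) (V : Fin n → C) (g : ∀ k, V k ⟶ X),
  (∀ k, S (g k)) ∧ Sieve.ofArrows V g ∈ J X

lemma isSheaf_pt (hJ : QC J) (F : I ⥤ Cᵒᵖ ⥤ Type w) (c : Cocone F)
    (hc : ∀ X : Cᵒᵖ, IsColimit (((evaluation _ _).obj X).mapCocone c))
    (hF : ∀ i, Presheaf.IsSheaf J (F.obj i)) : Presheaf.IsSheaf J c.pt := by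
  have hF' : ∀ i, Presieve.IsSheaf J (F.obj i) := fun i => (isSheaf_iff_isSheaf_of_type _ _).1 (hF i)
  rw [isSheaf_iff_isSheaf_of_type]
  intro X S hS
  obtain ⟨n, V, g, hg, hVg⟩ := hJ X S hS
  have hle : (Sieve.ofArrows V g : Presieve X) ≤ S := by
    intro Y f hf
    obtain ⟨_, a, _, ⟨k⟩, rfl⟩ := hf
    exact S.downward_closed (hg k) a
  refine Presieve.isSheafFor_subsieve c.pt hle ?_
  intro Y f
  have h1 : (Sieve.ofArrows V g).pullback f =
      Sieve.generate (Presieve.ofArrows (fun k => pullback (g k) f) (fun k => pullback.snd (g k) f)) := by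
    rw [Presieve.ofArrows_pullback f V g, Sieve.pullbackArrows_comm]
  rw [h1, ← Presieve.isSheafFor_iff_generate]
  apply isSheafFor_ofArrows F c hc
  intro i
  rw [Presieve.isSheafFor_iff_generate, ← h1]
  exact hF' i _ (J.pullback_stable f hVg)

/-- Filtered colimits of sheaves of sets are computed objectwise. -/
theorem preservesColimitsOfShape (hJ : QC J) [HasColimitsOfShape I (Type w)] :
    PreservesColimitsOfShape I (sheafToPresheaf J (Type w)) where
  preservesColimit {F} := by
    let P : ObjectProperty (Cᵒᵖ ⥤ Type w) := Presheaf.IsSheaf J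
    have h := isSheaf_pt J hJ (F ⋙ sheafToPresheaf J (Type w)) (colimit.cocone _)
      (fun X => isColimitOfPreserves ((evaluation _ _).obj X) (colimit.isColimit _)) (fun i => (F.obj i).2)
    have : CreatesColimit F P.ι := createsColimitFullSubcategoryInclusion F h
    have h2 : PreservesColimit F P.ι := inferInstance
    exact h2

end K298.QCFilt
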