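import Mathlib.CategoryTheory.Limits.Types.Images
import Mathlib.CategoryTheory.Functor.OfSequence
import Mathlib.CategoryTheory.Sites.LocallySurjective
import Mathlib.CategoryTheory.Sites.Limits

/-!
# Sequential limits of sheaves of sets with epimorphic transition maps
-/

set_option autoImplicit false
universe w v u

open CategoryTheory CategoryTheory.Limits Opposite

namespace K298.SeqLim

section

variable {F : ℕᵒᵖ ⥤ Type w} (hF : ∀ n : ℕ, Function.Surjective (F.map (homOfLE (Nat.le_succ n)).op))
  (n : ℕ) (x : F.obj (op n))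

/-- successive lifts of `x` -/
noncomputable def lifts : ∀ k : ℕ, F.obj (op (n + k))
  | 0 => x
  | k + 1 => (hF (n + k) (lifts k)).choose

lemma map_lifts (k : ℕ) : F.map (homOfLE (Nat.le_succ (n + k))).op (lifts hF n x (k + 1)) = lifts hF n x k :=
  (hF (n + k) (lifts hF n x k)).choose_spec

lemma map_lifts_eq (k : ℕ) : F.map (homOfLE (Nat.le_add_right n k)).op (lifts hF n x k) = x := by
  induction k with
  | zero => exact ConcreteCategory.congr_hom (F.map_id (op n)) x
  | succ k ih =>
    refine Eq.trans ?_ ih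
    rw [← map_lifts hF n x k]
    exact ConcreteCategory.congr_hom (F.map_comp (homOfLE (Nat.le_succ (n + k))).op
      (homOfLE (Nat.le_add_right n k)).op) (lifts hF n x (k + 1))

/-- the compatible family of the lifts -/
noncomputable def fam (m : ℕ) : F.obj (op m) :=
  F.map (homOfLE (Nat.le_add_left m n)).op (lifts hF n x m)

lemma map_fam (m : ℕ) : F.map (homOfLE (Nat.le_succ m)).op (fam hF n x (m + 1)) = fam hF n x m := by
  unfold fam
  rw [← map_lifts hF n x m]
  have h1 := ConcreteCategory.congr_hom (F.map_comp (homOfLE (Nat.le_add_left (m + 1) n)).op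
      (homOfLE (Nat.le_succ m)).op) (lifts hF n x (m + 1))
  have h2 := ConcreteCategory.congr_hom (F.map_comp (homOfLE (Nat.le_succ (n + m))).op
      (homOfLE (Nat.le_add_left m n)).op) (lifts hF n x (m + 1))
  exact h1.symm.trans h2

include hF in
theorem surjective_π {c : Cone F} (hc : IsLimit c) : Function.Surjective (c.π.app (op n)) := by
  intro x
  let c' : Cone F := {
    pt := PUnit
    π := NatTrans.ofOpSequence (fun m => ↾ (fun _ => fam hF n x m)) (fun m => by
      ext
      exact (map_fam hF n x m).symm) }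
  refine ⟨hc.lift c' PUnit.unit, ?_⟩
  refine (ConcreteCategory.congr_hom (hc.fac c' (op n)) PUnit.unit).trans ?_
  exact map_lifts_eq hF n x n

end

section Sheaf

variable {C : Type u} [Category.{v} C] (J : GrothendieckTopology C)

theorem epi_π
    (hwc : ∀ V : C, ∃ S : Sieve V, S ∈ J V ∧ ∀ ⦃W : C⦄ (f : W ⟶ V), S.arrows f →
      ∃ (U : C) (g : W ⟶ U) (h : U ⟶ V), (∀ (A B : Sheaf J (Type w)) (ψ : A ⟶ B), Epi ψ →
        Function.Surjective (ψ.hom.app (op U))) ∧ g ≫ h = f)
    (F : ℕᵒᵖ ⥤ Sheaf J (Type w))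
    (hF : ∀ n : ℕ, Epi (F.map (homOfLE (Nat.le_succ n)).op))
    (c : Cone F) (hc : IsLimit c) (n : ℕ) :
    Epi (c.π.app (op n)) := by
  have hs (U : C) (hU : ∀ (A B : Sheaf J (Type w)) (ψ : A ⟶ B), Epi ψ →
        Function.Surjective (ψ.hom.app (op U))) : Function.Surjective ((c.π.app (op n)).hom.app (op U)) := by
    let E := sheafToPresheaf J (Type w) ⋙ (evaluation Cᵒᵖ (Type w)).obj (op U)
    have hc' : IsLimit (E.mapCone c) := isLimitOfPreserves E hc
    exact surjective_π (F := F ⋙ E) (fun n => hU _ _ _ (hF n)) n hc'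
  have : Sheaf.IsLocallySurjective (c.π.app (op n)) := ⟨by
    intro V s
    obtain ⟨S, hS, h⟩ := hwc V
    refine J.superset_covering ?_ hS
    intro W f hf
    obtain ⟨U, g, k, hU, rfl⟩ := h f hf
    obtain ⟨t, ht⟩ := hs U hU ((F.obj (op n)).obj.map k.op s)
    refine ⟨c.pt.obj.map g.op t, ?_⟩
    have h1 := ConcreteCategory.congr_hom ((c.π.app (op n)).hom.naturality g.op) t
    refine h1.trans ?_
    refine (congrArg ((F.obj (op n)).obj.map g.op) ht).trans ?_
    exact (ConcreteCategory.congr_hom ((F.obj (op n)).obj.map_comp k.op g.op) s).symm⟩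
  infer_instance

end Sheaf

end K298.SeqLim
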